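import Mathlib
import Cfsg.Agent.Lib.SpClassNum.Count

/-!
Weighted tuples of reciprocal polynomials with parities shifted: class numbers of orthogonal groups in odd
characteristic.
-/

set_option autoImplicit false

namespace CfsgLib.OrthClassNum

open Polynomial Finset CfsgLib.SpecGL CfsgLib.SpecUnitary CfsgLib.SpClassNum

/-- Weighted tuples, the weight at exponent `e` being taken at exponent `σ e`. -/
def gCount (q : ℕ) (σ : ℕ → ℕ) : ℕ → ℕ → ℕ
  | 0, N => if N = 0 then 1 else 0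
  | r + 1, N => ∑ d ∈ range (N / (r + 1) + 1), partCount q (σ (r + 1)) d * gCount q σ r (N - (r + 1) * d)

section tuples

variable {F : Type*} [Field F] [Fintype F]

open scoped Classical in
/-- total weight of the admissible tuples -/
theorem sum_gTuples_le (h2 : (2 : F) ≠ 0) (σ : ℕ → ℕ) : ∀ r N : ℕ,
    (∑ g ∈ tuples F r N, if ∀ i : Fin r, PartOk (σ ((i : ℕ) + 1)) (g i) then
      ∏ i : Fin r, partWeight (σ ((i : ℕ) + 1)) (g i) else 0) ≤ gCount (Fintype.card F) σ r N := by
  intro r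
  induction r with
  | zero => intro N; rw [tuples, gCount]; split_ifs <;> simp
  | succ r ih =>
    intro N
    letI := Classical.decEq (Fin (r + 1) → F[X])
    rw [tuples, gCount]
    refine (sum_biUnion_le' _ _ _).trans (Finset.sum_le_sum fun d _ => ?_)
    refine (Finset.sum_image_le_of_nonneg fun _ _ => Nat.zero_le _).trans ?_
    rw [Finset.sum_product]
    refine le_trans (le_of_eq ?_) (Nat.mul_le_mul (sum_part_le h2 (σ (r + 1)) d) (ih (N - (r + 1) * d)))
    rw [Finset.sum_mul]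
    refine Finset.sum_congr rfl fun x _ => ?_
    rw [Finset.mul_sum]
    refine Finset.sum_congr rfl fun t _ => ?_
    by_cases hx : PartOk (σ (r + 1)) x <;> by_cases ht : ∀ i : Fin r, PartOk (σ ((i : ℕ) + 1)) (t i) <;>
      simp [Fin.forall_fin_succ', Fin.prod_univ_castSucc, hx, ht, mul_comm]

end tuples

section numeric

variable {q : ℕ}

theorem gCount_one (σ : ℕ → ℕ) (N : ℕ) : gCount q σ 1 N = partCount q (σ 1) N := by
  rw [gCount, Finset.sum_eq_single N]
  · simp [gCount]
  · intro d hd hdN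
    rw [Finset.mem_range] at hd
    simp only [gCount]
    rw [if_neg (by simp at hd ⊢; omega), mul_zero]
  · intro h; exact absurd (Finset.mem_range.2 (by simp)) h

theorem gCount_le (hq : 3 ≤ q) (σ : ℕ → ℕ) {c : ℝ} (hc : 0 ≤ c) (f : ℕ → ℝ) (hf : ∀ k, 0 ≤ f k)
    (hbase : ∀ N, (gCount q σ 1 N : ℝ) ≤ c * (√(q : ℝ)) ^ N)
    (hstep : ∀ k M, ∑ d ∈ range M, (partCount q (σ (k + 2)) d : ℝ) * ((1 / √(q : ℝ)) ^ (k + 2)) ^ d ≤ f k) :
    ∀ R N : ℕ, (gCount q σ (R + 1) N : ℝ) ≤ c * (∏ k ∈ range R, f k) * (√(q : ℝ)) ^ N := by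
  set s := √(q : ℝ) with hs
  have hs0 : 0 < s := Real.sqrt_pos.2 (by
    have : (3 : ℝ) ≤ q := by exact_mod_cast hq
    linarith)
  intro R
  induction R with
  | zero => intro N; simpa using hbase N
  | succ R ih =>
    intro N
    set B := c * ∏ k ∈ range R, f k with hB
    have hB0 : 0 ≤ B := mul_nonneg hc (Finset.prod_nonneg fun k _ => hf k)
    calc (gCount q σ (R + 1 + 1) N : ℝ)
        ≤ ∑ d ∈ range (N / (R + 2) + 1), (partCount q (σ (R + 2)) d : ℝ) * (B * s ^ (N - (R + 2) * d)) := by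
          rw [gCount]
          push_cast
          exact Finset.sum_le_sum fun d _ => mul_le_mul_of_nonneg_left (ih _) (Nat.cast_nonneg _)
      _ = B * s ^ N * ∑ d ∈ range (N / (R + 2) + 1), (partCount q (σ (R + 2)) d : ℝ) * ((1 / s) ^ (R + 2)) ^ d := by
          rw [Finset.mul_sum]
          refine Finset.sum_congr rfl fun d hd => ?_
          rw [Finset.mem_range, Nat.lt_succ_iff, Nat.le_div_iff_mul_le (by omega), mul_comm d] at hd
          rw [one_div_pow, one_div_pow, ← pow_mul, pow_sub₀ s hs0.ne' hd]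
          ring
      _ ≤ B * s ^ N * f R := mul_le_mul_of_nonneg_left (hstep R _) (mul_nonneg hB0 (pow_nonneg hs0.le N))
      _ = _ := by rw [Finset.prod_range_succ, hB]; ring

theorem tail_bound {P : ℕ → ℝ} {T K a : ℝ} (hP : ∀ k, 0 ≤ P k) (hmono : Monotone P)
    (hstep : ∀ k, 6 ≤ k → P (k + 1) ≤ P k * (1 + a / 3 ^ (k + 1))) (h6 : P 6 ≤ T - K / 729)
    (ha : 0 ≤ a) (hK : T * a ≤ 2 * K) (hK0 : 0 ≤ K) : ∀ R, P R ≤ T := by
  have h : ∀ k, P (k + 6) ≤ T - K / 3 ^ (k + 6) := by
    intro k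
    induction k with
    | zero => norm_num at h6 ⊢; exact h6
    | succ k ih =>
      rw [show k + 1 + 6 = k + 6 + 1 by omega]
      refine (hstep _ (by omega)).trans ?_
      refine (mul_le_mul_of_nonneg_right ih (by positivity)).trans ?_
      rw [pow_succ (3 : ℝ) (k + 6)]
      have hX : (0 : ℝ) < 3 ^ (k + 6) := by positivity
      generalize (3 : ℝ) ^ (k + 6) = X at *
      have key : T - K / (X * 3) - (T - K / X) * (1 + a / (X * 3)) =
          ((2 * K - T * a) * X + K * a) / (3 * X * X) := by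
        field_simp
        ring
      have : 0 ≤ T - K / (X * 3) - (T - K / X) * (1 + a / (X * 3)) := by
        rw [key]
        exact div_nonneg (add_nonneg (mul_nonneg (by linarith) hX.le) (mul_nonneg hK0 ha)) (by positivity)
      linarith
  intro R
  refine (hmono (show R ≤ R + 6 by omega)).trans ((h R).trans (sub_le_self _ ?_))
  exact div_nonneg hK0 (by positivity)

theorem minusProd_le : ∀ R, minusProd R ≤ 9 / 5 := by
  refine tail_bound (K := 2) (a := 2) (fun k => (minusProd_pos k).le) minusProd_mono (fun k _ => ?_)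
    (by norm_num [minusProd, Finset.prod_range_succ]) (by norm_num) (by norm_num) (by norm_num)
  rw [minusProd, minusProd, Finset.prod_range_succ]
  refine mul_le_mul_of_nonneg_left ?_ (minusProd_pos k).le
  have h1 := third_pow_le k
  have h0 : (0 : ℝ) ≤ 1 / 3 ^ (k + 1) := by positivity
  rw [div_le_iff₀ (by linarith), show (2 : ℝ) / 3 ^ (k + 1) = 2 * (1 / 3 ^ (k + 1)) by ring]
  nlinarith

/-- `∏_{j ≤ R} (1 + (29/50)·3^-j)^4` -/
noncomputable def halfProd (R : ℕ) : ℝ := ∏ k ∈ range R, (1 + 29 / 50 / 3 ^ (k + 1)) ^ 4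

theorem halfProd_nonneg (R : ℕ) : 0 ≤ halfProd R := Finset.prod_nonneg fun k _ => by positivity

theorem halfProd_mono : Monotone halfProd := by
  refine monotone_nat_of_le_succ fun R => ?_
  rw [halfProd, halfProd, Finset.prod_range_succ]
  exact le_mul_of_one_le_right (halfProd_nonneg R) (one_le_pow₀ (le_add_of_nonneg_right (by positivity)))

theorem halfProd_minusProd_le : ∀ R, halfProd R * minusProd R ≤ 27 / 5 := by
  refine tail_bound (K := 10) (a := 7 / 2) (fun k => mul_nonneg (halfProd_nonneg k) (minusProd_pos k).le)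
    (fun i j h => mul_le_mul (halfProd_mono h) (minusProd_mono h) (minusProd_pos i).le (halfProd_nonneg j))
    (fun k hk => ?_) (by norm_num [halfProd, minusProd, Finset.prod_range_succ]) (by norm_num) (by norm_num)
    (by norm_num)
  rw [halfProd, halfProd, minusProd, minusProd, Finset.prod_range_succ, Finset.prod_range_succ, mul_mul_mul_comm]
  refine mul_le_mul_of_nonneg_left ?_ (mul_nonneg (halfProd_nonneg k) (minusProd_pos k).le)
  have hX : (2187 : ℝ) ≤ 3 ^ (k + 1) :=
    le_trans (by norm_num) (pow_le_pow_right₀ (by norm_num) (show 7 ≤ k + 1 by omega))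
  rw [show (29 : ℝ) / 50 / 3 ^ (k + 1) = 29 / 50 * (1 / 3 ^ (k + 1)) by ring,
    show (7 : ℝ) / 2 / 3 ^ (k + 1) = 7 / 2 * (1 / 3 ^ (k + 1)) by ring]
  set y : ℝ := 1 / 3 ^ (k + 1) with hy
  have hy0 : 0 ≤ y := by positivity
  have hy1 : y ≤ 1 / 2187 := div_le_div_of_nonneg_left zero_le_one (by norm_num) hX
  rw [mul_one_div, div_le_iff₀ (by linarith)]
  nlinarith [mul_nonneg hy0 hy0, mul_le_mul_of_nonneg_left hy1 hy0,
    mul_le_mul_of_nonneg_left hy1 (mul_nonneg hy0 hy0),
    mul_le_mul_of_nonneg_left hy1 (mul_nonneg (mul_nonneg hy0 hy0) hy0)]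

theorem sum_geom_part_le {y : ℝ} (hy : (q : ℝ) * y ^ 2 < 1) {e : ℕ} (he : ¬ e % 2 = 0) (M : ℕ) :
    ∑ d ∈ range M, (partCount q e d : ℝ) * y ^ d ≤ 1 / (1 - q * y ^ 2) := by
  calc ∑ d ∈ range M, (partCount q e d : ℝ) * y ^ d
      = ∑ d ∈ (range M).filter (fun d => ¬ d % 2 = 1), ((q : ℝ) * y ^ 2) ^ (d / 2) := by
        rw [Finset.sum_filter]
        refine Finset.sum_congr rfl fun d _ => ?_
        rw [partCount, if_neg he]
        split_ifs with h
        · simp
        · push_cast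
          rw [mul_pow, ← pow_mul, show 2 * (d / 2) = d by omega]
    _ = ∑ d ∈ ((range M).filter (fun d => ¬ d % 2 = 1)).image (· / 2), ((q : ℝ) * y ^ 2) ^ d := by
        rw [Finset.sum_image fun a ha b hb h => by
          simp only [Finset.coe_filter, Set.mem_ofPred_eq, Finset.mem_range] at ha hb; omega]
    _ ≤ ∑ d ∈ range M, ((q : ℝ) * y ^ 2) ^ d := by
        refine Finset.sum_le_sum_of_subset_of_nonneg (fun d hd => ?_)
          fun d _ _ => pow_nonneg (mul_nonneg (Nat.cast_nonneg q) (sq_nonneg y)) d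
        obtain ⟨a, ha, rfl⟩ := Finset.mem_image.1 hd
        have := Finset.mem_range.1 (Finset.mem_filter.1 ha).1
        exact Finset.mem_range.2 (by omega)
    _ ≤ _ := by
        have hg := geom_sum_mul_neg ((q : ℝ) * y ^ 2) M
        rw [le_div_iff₀ (by linarith)]
        have hp : 0 ≤ ((q : ℝ) * y ^ 2) ^ M := pow_nonneg (mul_nonneg (Nat.cast_nonneg q) (sq_nonneg y)) M
        linarith

theorem step_facts (hq : 3 ≤ q) (k : ℕ) :
    0 ≤ (1 / √(q : ℝ)) ^ (k + 2) ∧ (q : ℝ) * ((1 / √(q : ℝ)) ^ (k + 2)) ^ 2 ≤ 1 / 3 ^ (k + 1) ∧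
      ∀ j, k + 2 = 2 * j + 1 → (1 / √(q : ℝ)) ^ (k + 2) ≤ 29 / 50 / 3 ^ j := by
  have hq' : (3 : ℝ) ≤ q := by exact_mod_cast hq
  set s := √(q : ℝ) with hs
  have hs2 : s ^ 2 = q := Real.sq_sqrt (Nat.cast_nonneg q)
  have hs0 : 0 < s := Real.sqrt_pos.2 (by linarith)
  refine ⟨by positivity, ?_, fun j hj => ?_⟩
  · rw [one_div_pow, one_div_pow, ← pow_mul, show (k + 2) * 2 = 2 * (k + 1) + 2 by ring, pow_add, pow_mul, hs2]
    rw [show (q : ℝ) * (1 / ((q : ℝ) ^ (k + 1) * q)) = 1 / (q : ℝ) ^ (k + 1) by field_simp]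
    exact div_le_div_of_nonneg_left zero_le_one (by positivity) (pow_le_pow_left₀ (by norm_num) hq' _)
  · rw [hj, one_div_pow, pow_succ, pow_mul, hs2, div_le_div_iff₀ (by positivity) (by positivity), one_mul]
    have h3 : (3 : ℝ) ^ j ≤ (q : ℝ) ^ j := pow_le_pow_left₀ (by norm_num) hq' j
    have hs3 : (50 : ℝ) ≤ 29 * s := by nlinarith
    nlinarith [mul_le_mul h3 hs3 (by norm_num) (by positivity)]

/-- the shift of parities for orthogonal groups -/
def shiftUp (e : ℕ) : ℕ := e + 1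

/-- all parts without eigenvalues `±1` -/
def shiftOne (_ : ℕ) : ℕ := 1

theorem gCount_one_le_orth (hq : 3 ≤ q) (N : ℕ) :
    (gCount q shiftUp 1 N : ℝ) ≤ 28 / 9 * (√(q : ℝ)) ^ N := by
  have hq' : (3 : ℝ) ≤ q := by exact_mod_cast hq
  set s := √(q : ℝ) with hs
  have hs2 : s ^ 2 = q := Real.sq_sqrt (Nat.cast_nonneg q)
  have hs0 : 0 < s := Real.sqrt_pos.2 (by linarith)
  have hs3 : (173 : ℝ) / 100 ≤ s := by nlinarith
  rw [gCount_one, shiftUp, partCount, if_pos (by norm_num)]
  rcases Nat.even_or_odd N with ⟨j, rfl⟩ | ⟨j, rfl⟩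
  · have hsj : s ^ (j + j) = (q : ℝ) ^ j := by rw [← two_mul, pow_mul, hs2]
    rw [hsj]
    rcases j with _ | _ | j
    · norm_num [evenCount, recipCount]
    · norm_num [evenCount, recipCount]; linarith
    · simp only [evenCount, recipCount]
      rw [if_pos (show 1 ≤ j + 1 + 1 + (j + 1 + 1) by omega), if_pos (show 2 ≤ j + 1 + 1 + (j + 1 + 1) by omega)]
      simp only [show ¬ j + 1 + 1 + (j + 1 + 1) = 0 by omega, show ¬ j + 1 + 1 + (j + 1 + 1) - 1 = 0 by omega,
        show ¬ j + 1 + 1 + (j + 1 + 1) - 2 = 0 by omega, if_false,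
        show ¬ (j + 1 + 1 + (j + 1 + 1)) % 2 = 1 by omega,
        show (j + 1 + 1 + (j + 1 + 1) - 1) % 2 = 1 by omega, if_true,
        show ¬ (j + 1 + 1 + (j + 1 + 1) - 2) % 2 = 1 by omega,
        show (j + 1 + 1 + (j + 1 + 1)) / 2 - 1 = j + 1 by omega,
        show (j + 1 + 1 + (j + 1 + 1) - 1) / 2 = j + 1 by omega,
        show (j + 1 + 1 + (j + 1 + 1) - 2) / 2 - 1 = j by omega]
      push_cast
      have : (0 : ℝ) ≤ (q : ℝ) ^ j := by positivity
      nlinarith [mul_le_mul_of_nonneg_left (show (q : ℝ) ^ 2 + 6 * q + 1 ≤ 28 / 9 * q ^ 2 by nlinarith) this,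
        pow_succ (q : ℝ) j, pow_succ (q : ℝ) (j + 1)]
  · have hsj : s ^ (2 * j + 1) = (q : ℝ) ^ j * s := by rw [pow_succ, pow_mul, hs2]
    rw [hsj]
    rcases j with _ | j
    · norm_num [evenCount, recipCount]; linarith
    · simp only [evenCount, recipCount]
      rw [if_pos (show 1 ≤ 2 * (j + 1) + 1 by omega), if_pos (show 2 ≤ 2 * (j + 1) + 1 by omega)]
      simp only [show ¬ 2 * (j + 1) + 1 = 0 by omega, show ¬ 2 * (j + 1) + 1 - 1 = 0 by omega,
        show ¬ 2 * (j + 1) + 1 - 2 = 0 by omega, if_false, show (2 * (j + 1) + 1) % 2 = 1 by omega,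
        show ¬ (2 * (j + 1) + 1 - 1) % 2 = 1 by omega, show (2 * (j + 1) + 1 - 2) % 2 = 1 by omega, if_true,
        show (2 * (j + 1) + 1) / 2 = j + 1 by omega, show (2 * (j + 1) + 1 - 1) / 2 - 1 = j by omega,
        show (2 * (j + 1) + 1 - 2) / 2 = j by omega]
      push_cast
      have h0 : (0 : ℝ) ≤ (q : ℝ) ^ j := by positivity
      have key : 4 * (q : ℝ) + 4 ≤ 28 / 9 * q * s := by nlinarith
      nlinarith [mul_le_mul_of_nonneg_left key h0, pow_succ (q : ℝ) j]

theorem orth_count_le (hq : 3 ≤ q) {n : ℕ} (hn : 1 ≤ n) :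
    5 * gCount q shiftUp (2 * n) (2 * n) ≤ 84 * q ^ n := by
  let f : ℕ → ℝ := fun k => (if k % 2 = 1 then (1 + 29 / 50 / 3 ^ ((k + 1) / 2)) ^ 4 else 1) * (1 / (1 - 1 / 3 ^ (k + 1)))
  have hstep : ∀ k M, ∑ d ∈ range M, (partCount q (shiftUp (k + 2)) d : ℝ) * ((1 / √(q : ℝ)) ^ (k + 2)) ^ d ≤ f k := by
    intro k M
    obtain ⟨hy0, hy, hyj⟩ := step_facts hq k
    have h3 := third_pow_le k
    have hlt : (q : ℝ) * ((1 / √(q : ℝ)) ^ (k + 2)) ^ 2 < 1 := by linarith
    simp only [f]
    by_cases hk : k % 2 = 1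
    · have : ∀ d, partCount q (shiftUp (k + 2)) d = evenCount q d := fun d => if_pos (by rw [shiftUp]; omega)
      simp only [this, if_pos hk]
      refine (sum_even_le hy0 hlt M).trans ?_
      rw [mul_one_div]
      exact div_le_div₀ (by positivity) (pow_le_pow_left₀ (by linarith) (by linarith [hyj ((k + 1) / 2) (by omega)]) 4)
        (by linarith) (by linarith)
    · rw [if_neg hk, one_mul]
      refine (sum_geom_part_le hlt (by rw [shiftUp]; omega) M).trans ?_
      exact div_le_div_of_nonneg_left zero_le_one (by linarith) (by linarith)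
  have hf : ∀ k, 0 ≤ f k := fun k => mul_nonneg (by split_ifs <;> positivity)
    (one_div_nonneg.2 (by linarith [third_pow_le k]))
  have hprod : ∀ R, ∏ k ∈ range R, f k = halfProd (R / 2) * minusProd R := by
    intro R
    induction R with
    | zero => simp [halfProd, minusProd]
    | succ R ih =>
      rw [Finset.prod_range_succ, ih, minusProd, minusProd, Finset.prod_range_succ]
      simp only [f]
      by_cases hk : R % 2 = 1
      · rw [if_pos hk, show (R + 1) / 2 = R / 2 + 1 by omega, halfProd, halfProd, Finset.prod_range_succ]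
        ring
      · rw [if_neg hk, show (R + 1) / 2 = R / 2 by omega]
        ring
  have h := gCount_le hq shiftUp (c := 28 / 9) (by norm_num) f hf (gCount_one_le_orth hq) hstep (2 * n - 1) (2 * n)
  rw [show 2 * n - 1 + 1 = 2 * n by omega, hprod, pow_mul, Real.sq_sqrt (Nat.cast_nonneg q)] at h
  have hb : halfProd ((2 * n - 1) / 2) * minusProd (2 * n - 1) ≤ 27 / 5 :=
    (mul_le_mul_of_nonneg_right (halfProd_mono (Nat.div_le_self _ _)) (minusProd_pos _).le).trans
      (halfProd_minusProd_le _)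
  have h' := h.trans (mul_le_mul_of_nonneg_right (mul_le_mul_of_nonneg_left hb (by norm_num)) (by positivity))
  have : ((5 * gCount q shiftUp (2 * n) (2 * n) : ℕ) : ℝ) ≤ ((84 * q ^ n : ℕ) : ℝ) := by
    push_cast
    linarith
  exact_mod_cast this

theorem noroot_count_le (hq : 3 ≤ q) {n : ℕ} (hn : 1 ≤ n) :
    5 * gCount q shiftOne (2 * n) (2 * n) ≤ 9 * q ^ n := by
  have hbase : ∀ N, (gCount q shiftOne 1 N : ℝ) ≤ 1 * (√(q : ℝ)) ^ N := by
    intro N
    rw [gCount_one, shiftOne, partCount, if_neg (by norm_num), one_mul]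
    split_ifs with hN
    · rw [Nat.cast_zero]; positivity
    · refine le_of_eq ?_
      conv_rhs => rw [show N = 2 * (N / 2) by omega, pow_mul, Real.sq_sqrt (Nat.cast_nonneg q)]
      push_cast
      rfl
  have hstep : ∀ k M, ∑ d ∈ range M, (partCount q (shiftOne (k + 2)) d : ℝ) * ((1 / √(q : ℝ)) ^ (k + 2)) ^ d ≤
      1 / (1 - 1 / 3 ^ (k + 1)) := by
    intro k M
    obtain ⟨-, hy, -⟩ := step_facts hq k
    have h3 := third_pow_le k
    refine (sum_geom_part_le (by linarith) (by rw [shiftOne]; omega) M).trans ?_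
    exact div_le_div_of_nonneg_left zero_le_one (by linarith) (by linarith)
  have h := gCount_le hq shiftOne (c := 1) zero_le_one (fun k => 1 / (1 - 1 / 3 ^ (k + 1)))
    (fun k => one_div_nonneg.2 (by linarith [third_pow_le k])) hbase hstep (2 * n - 1) (2 * n)
  rw [show 2 * n - 1 + 1 = 2 * n by omega, pow_mul, Real.sq_sqrt (Nat.cast_nonneg q), one_mul, ← minusProd] at h
  have h' := h.trans (mul_le_mul_of_nonneg_right (minusProd_le _) (by positivity))
  have : ((5 * gCount q shiftOne (2 * n) (2 * n) : ℕ) : ℝ) ≤ ((9 * q ^ n : ℕ) : ℝ) := by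
    push_cast
    linarith
  exact_mod_cast this

end numeric

end CfsgLib.OrthClassNum
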