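import Mathlib
import Cfsg.Agent.Lib.SympUnip.Blocks

/-!
Symmetric forms for which the shift is skew-adjoint: leading blocks, congruence, discriminant.
-/

set_option autoImplicit false
set_option linter.unusedSectionVars false

namespace CfsgLib.OrthClassNum

open Matrix CfsgLib.SympUnip CfsgLib.UnitaryUnip

variable {F : Type*} [Field F] [Fintype F] {t : ℕ} {d : Fin t → ℕ} {M : ℕ}

theorem det_blockDiag_sigma {R : Type*} [CommRing R] {o : Type*} [Fintype o] [DecidableEq o] {m : o → Type*}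
    [∀ i, Fintype (m i)] [∀ i, DecidableEq (m i)] (A : (i : o) → Matrix (m i) (m i) R) :
    (Matrix.blockDiagonal' A).det = ∏ i, (A i).det := by
  let e := Fintype.equivFin o
  have ht : (Matrix.blockDiagonal' A).BlockTriangular (fun x => e x.1) := fun x y h =>
    Matrix.blockDiagonal'_apply_ne A _ _ fun hxy => absurd h (by simp only [hxy]; exact lt_irrefl _)
  rw [Matrix.BlockTriangular.det_fintype ht, ← e.prod_comp]
  refine Finset.prod_congr rfl fun i _ => ?_
  let f : m i ≃ {x : (j : o) × m j // e x.1 = e i} :=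
    { toFun := fun v => ⟨⟨i, v⟩, rfl⟩
      invFun := fun x => e.injective x.2 ▸ x.1.2
      left_inv := fun v => rfl
      right_inv := fun x => by
        obtain ⟨⟨j, v⟩, hj⟩ := x
        obtain rfl : j = i := e.injective hj
        rfl }
  rw [← Matrix.det_submatrix_equiv_self f]
  congr 1
  ext v w
  simp [f, Matrix.toSquareBlock_def]

/-- Symmetric forms for which the shift is skew-adjoint. -/
def IsSymForm (d : Fin t → ℕ) (G : Matrix (Ix d) (Ix d) F) : Prop :=
  Gᵀ = G ∧ (jshift d)ᵀ * G = -(G * jshift d)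

variable {G G' : Matrix (Ix d) (Ix d) F}

theorem comm_twInv_sym (hG : IsSymForm d G) : Commute (twInv d * G) (jshift d) := by
  show twInv d * G * jshift d = jshift d * (twInv d * G)
  rw [Matrix.mul_assoc, show G * jshift d = -((jshift d)ᵀ * G) by rw [hG.2, neg_neg], Matrix.mul_neg,
    ← Matrix.mul_assoc, twInv_jshift, Matrix.neg_mul, neg_neg, Matrix.mul_assoc]

theorem IsSymForm.congr (hG : IsSymForm d G) {a : Matrix (Ix d) (Ix d) F} (ha : Commute a (jshift d)) :
    IsSymForm d (aᵀ * G * a) := by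
  refine ⟨?_, ?_⟩
  · rw [transpose_mul, transpose_mul, transpose_transpose, hG.1, Matrix.mul_assoc]
  · have h1 : (jshift d)ᵀ * aᵀ = aᵀ * (jshift d : Matrix (Ix d) (Ix d) F)ᵀ := by
      rw [← transpose_mul, ← transpose_mul, ha.eq]
    rw [← Matrix.mul_assoc, ← Matrix.mul_assoc, h1, Matrix.mul_assoc aᵀ, hG.2, Matrix.mul_neg,
      Matrix.neg_mul, ← Matrix.mul_assoc, Matrix.mul_assoc (aᵀ * G), ← ha.eq, ← Matrix.mul_assoc]

variable (hd : ∀ k, 0 < d k)

theorem blk_congr_sym (hG : IsSymForm d G) {a : Matrix (Ix d) (Ix d) F} (ha : Commute a (jshift d)) :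
    blk d hd (aᵀ * G * a) = (lead d hd a)ᵀ * blk d hd G * lead d hd a := by
  have e : twInv d * (aᵀ * G * a) = twInv d * aᵀ * twM d * (twInv d * G) * a := by
    rw [Matrix.mul_assoc _ (twM d), ← Matrix.mul_assoc (twM d), twM_twInv, Matrix.one_mul]
    simp only [Matrix.mul_assoc]
  rw [blk, e, lead_mul hd ((twist_comm ha).mul_left (comm_twInv_sym hG)) ha,
    lead_mul hd (twist_comm ha) (comm_twInv_sym hG), lead_twist hd ha]
  rfl

theorem blk_transpose_sym (hG : IsSymForm d G) (k l : Fin t) :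
    blk d hd G l k = -((-1) ^ d k * blk d hd G k l) := by
  simp only [blk, lead, Matrix.of_apply]
  by_cases hkl : d k = d l
  · rw [if_pos hkl.symm, if_pos hkl]
    set h := twInv d * G with hh
    have hGh : G = twM d * h := by rw [hh, ← Matrix.mul_assoc, twM_twInv, Matrix.one_mul]
    have e1 : h ⟨l, ⟨0, hd l⟩⟩ ⟨k, ⟨0, hd k⟩⟩ = G ⟨l, Fin.rev ⟨0, hd l⟩⟩ ⟨k, ⟨0, hd k⟩⟩ := by
      rw [hh, twInv_mul_apply, pow_zero, one_mul]
    have e2 := congrFun (congrFun hG.1 ⟨l, Fin.rev ⟨0, hd l⟩⟩) ⟨k, ⟨0, hd k⟩⟩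
    rw [Matrix.transpose_apply, ← e1] at e2
    rw [← e2, hGh, twM_mul_apply,
      show (Fin.rev ⟨0, hd l⟩ : Fin (d l)) = ⟨d l - 1, by have := hd l; omega⟩ from Fin.ext (by simp),
      show (Fin.rev ⟨0, hd k⟩ : Fin (d k)) = ⟨d k - 1, by have := hd k; omega⟩ from Fin.ext (by simp),
      comm_entry (show Commute h (jshift d) from comm_twInv_sym hG), if_pos (by omega)]
    have e3 : (⟨d k - 1 - (d l - 1), by have := hd k; omega⟩ : Fin (d k)) = ⟨0, hd k⟩ := Fin.ext (by
      show d k - 1 - (d l - 1) = 0; omega)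
    rw [e3]
    obtain ⟨c, hc⟩ : ∃ c, d k = c + 1 := ⟨d k - 1, by have := hd k; omega⟩
    show (-1) ^ (d k - 1) * _ = _
    rw [show (-1 : F) ^ d k = -((-1) ^ (d k - 1)) by rw [hc, Nat.add_sub_cancel, pow_succ]; ring]
    ring
  · rw [if_neg fun h => hkl h.symm, if_neg hkl, mul_zero, neg_zero]

include hd in
/-- Forms with the same leading blocks are congruent under the commutant. -/
theorem congr_of_blk_eq_sym {p : ℕ} [Fact p.Prime] [CharP F p] (hp : p ≠ 2) (hG : IsSymForm d G)
    (hGu : IsUnit G) (hG' : IsSymForm d G') (h : blk d hd G = blk d hd G') :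
    ∃ a : Matrix (Ix d) (Ix d) F, Commute a (jshift d) ∧ IsUnit a ∧ aᵀ * G * a = G' := by
  rcases isEmpty_or_nonempty (Ix d) with hE | hE
  · exact ⟨1, Commute.one_left _, isUnit_one, Matrix.ext fun i => (hE.false i).elim⟩
  obtain ⟨g, hg⟩ : IsUnit (twInv d * G) := (IsUnit.of_mul_eq_one _ twInv_twM).mul hGu
  have hgc : Commute (g : Matrix (Ix d) (Ix d) F) (jshift d) := by rw [hg]; exact comm_twInv_sym hG
  set u : Matrix (Ix d) (Ix d) F := (↑g⁻¹ : Matrix (Ix d) (Ix d) F) * (twInv d * G') with hu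
  have huc : Commute u (jshift d) := hgc.units_inv_left.mul_left (comm_twInv_sym hG')
  have hGu' : G * u = G' := by
    rw [hu, show G = twM d * (twInv d * G) by rw [← Matrix.mul_assoc, twM_twInv, Matrix.one_mul], ← hg,
      Matrix.mul_assoc, ← Matrix.mul_assoc _ (↑g⁻¹ : Matrix (Ix d) (Ix d) F), Units.mul_inv, Matrix.one_mul,
      ← Matrix.mul_assoc, twM_twInv, Matrix.one_mul]
  have hlead : lead d hd u = 1 := by
    rw [hu, lead_mul hd hgc.units_inv_left (comm_twInv_sym hG'),
      show lead d hd (twInv d * G') = lead d hd (g : Matrix (Ix d) (Ix d) F) by rw [hg]; exact h.symm,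
      lead_isUnit_inv hd hgc.units_inv_left hgc g.inv_mul]
  have : CharP (Matrix (Ix d) (Ix d) F) p :=
    charP_of_injective_algebraMap (algebraMap F _).injective p
  have hpp : p.Prime := Fact.out
  obtain ⟨j, hj⟩ : IsNilpotent (u - 1) :=
    isNilpotent_of_lead_eq_zero hd (huc.sub_left (Commute.one_left _))
      (by rw [lead_sub, hlead, lead_one, sub_self])
  have hup : u ^ p ^ j = 1 := by
    have h1 := pow_eq_zero_of_le (Nat.lt_pow_self hpp.one_lt).le hj
    rwa [sub_pow_char_pow_of_commute p j (Commute.one_right _), one_pow, sub_eq_zero] at h1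
  obtain ⟨r, hr⟩ : Even (p ^ j + 1) := ((hpp.odd_of_ne_two hp).pow).add_one
  have hskew : uᵀ * G = G * u := by
    have h1 : (G * u)ᵀ = G * u := by rw [hGu']; exact hG'.1
    rwa [transpose_mul, hG.1] at h1
  have hskew' : ∀ i : ℕ, (u ^ i)ᵀ * G = G * u ^ i := fun i => by
    induction i with
    | zero => simp
    | succ i ih =>
      rw [pow_succ, transpose_mul, Matrix.mul_assoc, ih, ← Matrix.mul_assoc, hskew, Matrix.mul_assoc,
        ← pow_succ', pow_succ]
  refine ⟨u ^ r, huc.pow_left r, (IsUnit.of_pow_eq_one hup (pow_ne_zero _ hpp.ne_zero)).pow r, ?_⟩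
  rw [hskew', Matrix.mul_assoc, ← pow_add, ← hr, pow_succ, hup, Matrix.one_mul, hGu']

include hd in
/-- Forms with congruent leading blocks are congruent under the commutant. -/
theorem congr_of_blk_congr_sym {p : ℕ} [Fact p.Prime] [CharP F p] (hp : p ≠ 2) (hG : IsSymForm d G)
    (hGu : IsUnit G) (hG' : IsSymForm d G') {B : Matrix (Fin t) (Fin t) F} (hB : B ∈ blockRing d)
    (hBu : IsUnit B) (h : Bᵀ * blk d hd G * B = blk d hd G') :
    ∃ a : Matrix (Ix d) (Ix d) F, Commute a (jshift d) ∧ IsUnit a ∧ aᵀ * G * a = G' := by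
  obtain ⟨b, hbc, hb⟩ := lead_surj hd B hB
  have hbu : IsUnit b := isUnit_of_lead hd hbc (by rw [hb]; exact hBu)
  have hu' : IsUnit (bᵀ * G * b) := by
    rw [Matrix.isUnit_iff_isUnit_det, det_mul, det_mul, det_transpose]
    have h1 := (Matrix.isUnit_iff_isUnit_det _).1 hbu
    exact (h1.mul ((Matrix.isUnit_iff_isUnit_det _).1 hGu)).mul h1
  obtain ⟨a, hac, hau, ha⟩ := congr_of_blk_eq_sym hd hp (hG.congr hbc) hu' hG'
    (by rw [blk_congr_sym hd hG hbc, hb, h])
  refine ⟨b * a, hbc.mul_left hac, hbu.mul hau, ?_⟩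
  rw [← ha, transpose_mul]
  simp only [Matrix.mul_assoc]

theorem subN_blk_transpose_sym (hG : IsSymForm d G) (a : ℕ) :
    (subN d a (blk d hd G))ᵀ = -((-1 : F) ^ a • subN d a (blk d hd G)) := by
  ext ⟨k, hk⟩ ⟨l, hl⟩
  show blk d hd G l k = -((-1) ^ a * blk d hd G k l)
  rw [blk_transpose_sym hd hG, hk]

theorem subN_blk_det_ne_zero_sym (hG : IsSymForm d G) (hu : IsUnit G) (a : ℕ) :
    (subN d a (blk d hd G)).det ≠ 0 := by
  obtain ⟨u, hu⟩ : IsUnit (twInv d * G) := (IsUnit.of_mul_eq_one _ twInv_twM).mul hu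
  have hc : Commute (u : Matrix (Ix d) (Ix d) F) (jshift d) := by rw [hu]; exact comm_twInv_sym hG
  refine Matrix.det_ne_zero_of_right_inverse (B := subN d a (lead d hd (↑u⁻¹ : Matrix (Ix d) (Ix d) F))) ?_
  rw [← subN_mul a (blk_mem hd G), blk, ← hu, lead_isUnit_inv hd hc hc.units_inv_left u.mul_inv, subN_one]

include hd in
/-- Even chain lengths occur evenly often. -/
theorem even_card_of_even (h2 : (2 : F) ≠ 0) (hG : IsSymForm d G) (hu : IsUnit G) {a : ℕ} (ha : Even a) :
    Even (Fintype.card {k : Fin t // d k = a}) :=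
  even_card_of_skew h2 (by rw [subN_blk_transpose_sym hd hG, ha.neg_one_pow, one_smul])
    (subN_blk_det_ne_zero_sym hd hG hu a)

include hd in
/-- Two forms with the same square classes at the odd lengths are congruent. -/
theorem congr_of_squares_sym {p : ℕ} [Fact p.Prime] [CharP F p] (hp : p ≠ 2) (h2 : (2 : F) ≠ 0)
    (hG : IsSymForm d G) (hGu : IsUnit G) (hG' : IsSymForm d G') (hG'u : IsUnit G') (hM : ∀ k, d k < M)
    (h : ∀ k, Odd (d k) → (IsSquare (subN d (d k) (blk d hd G)).det ↔ IsSquare (subN d (d k) (blk d hd G')).det)) :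
    ∃ b : Matrix (Ix d) (Ix d) F, Commute b (jshift d) ∧ IsUnit b ∧ bᵀ * G * b = G' := by
  have hC : ∀ i : Fin M, ∃ C : Matrix {k : Fin t // d k = (i : ℕ)} {k : Fin t // d k = (i : ℕ)} F,
      IsUnit C ∧ Cᵀ * subN d i (blk d hd G) * C = subN d i (blk d hd G') := by
    intro i
    rcases Nat.even_or_odd (i : ℕ) with hi | hi
    · obtain ⟨C, D, hCD, hDC, hC⟩ := alt_congr h2 rfl
        (by rw [subN_blk_transpose_sym hd hG, hi.neg_one_pow, one_smul]) (subN_blk_det_ne_zero_sym hd hG hGu _)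
        (by rw [subN_blk_transpose_sym hd hG', hi.neg_one_pow, one_smul]) (subN_blk_det_ne_zero_sym hd hG' hG'u _)
      exact ⟨C, IsUnit.of_mul_eq_one _ hCD, hC⟩
    · refine sym_congr h2 (by rw [subN_blk_transpose_sym hd hG, hi.neg_one_pow, neg_one_smul, neg_neg])
        (by rw [subN_blk_transpose_sym hd hG', hi.neg_one_pow, neg_one_smul, neg_neg])
        (subN_blk_det_ne_zero_sym hd hG hGu _) (subN_blk_det_ne_zero_sym hd hG' hG'u _) ?_
      rcases isEmpty_or_nonempty {k : Fin t // d k = (i : ℕ)} with hE | ⟨⟨k, hk⟩⟩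
      · rw [Matrix.det_isEmpty, Matrix.det_isEmpty, mul_one]
        exact IsSquare.one
      · refine isSquare_mul_of_iff h2 (subN_blk_det_ne_zero_sym hd hG hGu _)
          (subN_blk_det_ne_zero_sym hd hG' hG'u _) ?_
        have h' := h k (hk.symm ▸ hi)
        rw [hk] at h'
        exact h'
  choose C hCu hC using hC
  refine congr_of_blk_congr_sym hd hp hG hGu hG' (blockOf_mem hM C) ((isUnit_blockOf hM C).2 hCu) ?_
  rw [← eq_blockOf hM (blk_mem hd G), ← eq_blockOf hM (blk_mem hd G'), blockOf_transpose, blockOf_mul,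
    blockOf_mul]
  exact congrArg _ (funext hC)

include hd in
/-- The determinant of an element of the commutant. -/
theorem det_commutant {p : ℕ} [Fact p.Prime] [CharP F p] (hM : ∀ k, d k < M) {h : Matrix (Ix d) (Ix d) F}
    (hc : Commute h (jshift d)) (hu : IsUnit h) :
    h.det = ∏ a : Fin M, (subN d a (lead d hd h)).det ^ (a : ℕ) := by
  set B := lead d hd h with hB
  have hBm : B ∈ blockRing d := lead_isBlock hd h
  let h0 : Matrix (Ix d) (Ix d) F := Matrix.of fun a b => if (a.2 : ℕ) = b.2 then B a.1 b.1 else 0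
  have h0c : Commute h0 (jshift d) := by
    ext ⟨k, i, hi⟩ ⟨l, j, hj⟩
    rw [mul_jshift, jshift_mul]
    by_cases hkl : d k = d l
    · by_cases hij : i = j + 1
      · rw [dif_pos (by omega), if_neg (by omega)]
        simp [h0, hij]
      · split_ifs with hj' hx hx <;> simp [h0, hij] <;> omega
    · have hz := hBm k l hkl
      split_ifs <;> simp [h0, hz]
  have h0l : lead d hd h0 = B := by
    ext k l
    simp only [lead, Matrix.of_apply, h0]
    split_ifs with hkl
    · rfl
    · exact (hBm k l hkl).symm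
  let e : Sigma (fun q : Sigma (fun a : Fin M => Fin (a : ℕ)) => {k : Fin t // d k = (q.1 : ℕ)}) ≃ Ix d :=
    { toFun := fun x => ⟨x.2.1, ⟨(x.1.2 : ℕ), lt_of_lt_of_eq x.1.2.isLt x.2.2.symm⟩⟩
      invFun := fun y => ⟨⟨⟨d y.1, hM y.1⟩, y.2⟩, ⟨y.1, rfl⟩⟩
      left_inv := fun x => by
        obtain ⟨⟨⟨a, ha⟩, i⟩, k, hk⟩ := x
        simp only at hk
        subst hk
        rfl
      right_inv := fun y => rfl }
  have hdet0 : h0.det = ∏ a : Fin M, (subN d a B).det ^ (a : ℕ) := by
    have hbd : h0.submatrix e e = Matrix.blockDiagonal' fun q : Sigma (fun a : Fin M => Fin (a : ℕ)) => subN d (q.1 : ℕ) B := by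
      ext ⟨⟨a, i⟩, k, hk⟩ ⟨⟨a', i'⟩, k', hk'⟩
      simp only [Matrix.submatrix_apply, h0, e, Equiv.coe_fn_mk, Matrix.of_apply]
      by_cases heq : (⟨a, i⟩ : (a : Fin M) × Fin (a : ℕ)) = ⟨a', i'⟩
      · obtain ⟨rfl, h'⟩ := Sigma.mk.inj_iff.1 heq
        obtain rfl := eq_of_heq h'
        rw [if_pos rfl, Matrix.blockDiagonal'_apply_eq]
        rfl
      · rw [Matrix.blockDiagonal'_apply_ne _ _ _ heq]
        split_ifs with hii
        · refine hBm k k' ?_
          rw [hk, hk']
          intro haa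
          exact heq (Sigma.ext (Fin.ext haa) ((Fin.heq_ext_iff haa).2 hii))
        · rfl
    rw [← Matrix.det_submatrix_equiv_self e, hbd, det_blockDiag_sigma, Fintype.prod_sigma]
    refine Finset.prod_congr rfl fun a _ => ?_
    exact (Finset.prod_const (s := (Finset.univ : Finset (Fin (a : ℕ)))) (subN d (a : ℕ) B).det).trans (by rw [Finset.card_univ, Fintype.card_fin])
  obtain ⟨u, hu⟩ := hu
  have hh0u : IsUnit h0 := isUnit_of_lead hd h0c (by
    rw [h0l, hB, ← hu]
    refine IsUnit.of_mul_eq_one (lead d hd (↑u⁻¹ : Matrix (Ix d) (Ix d) F)) ?_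
    exact lead_isUnit_inv hd (hu.symm ▸ hc) (show Commute (u : Matrix (Ix d) (Ix d) F) _ from hu.symm ▸ hc).units_inv_left u.mul_inv)
  obtain ⟨w, hw⟩ := hh0u
  have hwc : Commute (w : Matrix (Ix d) (Ix d) F) (jshift d) := hw.symm ▸ h0c
  set x := (↑w⁻¹ : Matrix (Ix d) (Ix d) F) * h with hx
  have hxc : Commute x (jshift d) := hwc.units_inv_left.mul_left hc
  have hxl : lead d hd x = 1 := by
    rw [hx, lead_mul hd hwc.units_inv_left hc, ← hB, ← h0l, ← hw,
      lead_isUnit_inv hd hwc.units_inv_left hwc w.inv_mul]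
  have hx1 : x.det = 1 := by
    rcases isEmpty_or_nonempty (Ix d) with hE | hE
    · exact Matrix.det_isEmpty
    have : CharP (Matrix (Ix d) (Ix d) F) p :=
      charP_of_injective_algebraMap (algebraMap F _).injective p
    obtain ⟨j, hj⟩ : IsNilpotent (x - 1) :=
      isNilpotent_of_lead_eq_zero hd (hxc.sub_left (Commute.one_left _))
        (by rw [lead_sub, hxl, lead_one, sub_self])
    have hxp : x ^ p ^ j = 1 := by
      have h1 := pow_eq_zero_of_le (Nat.lt_pow_self (Fact.out : p.Prime).one_lt).le hj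
      rwa [sub_pow_char_pow_of_commute p j (Commute.one_right _), one_pow, sub_eq_zero] at h1
    have h1 := congrArg Matrix.det hxp
    rw [Matrix.det_pow, Matrix.det_one] at h1
    have h3 : (x.det - 1) ^ p ^ j = 0 := by rw [sub_pow_char_pow, h1, one_pow, sub_self]
    exact sub_eq_zero.1 (eq_zero_of_pow_eq_zero h3)
  calc h.det = (h0 * x).det := by rw [hx, ← hw, ← Matrix.mul_assoc, w.mul_inv, Matrix.one_mul]
    _ = _ := by rw [Matrix.det_mul, hx1, mul_one, hdet0]

include hd in
/-- The square class of a form. -/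
theorem quadraticChar_det [DecidableEq F] (hG : IsSymForm d G) (hu : IsUnit G) :
    quadraticChar F G.det = quadraticChar F (twM d : Matrix (Ix d) (Ix d) F).det *
      ∏ a ∈ (Finset.univ.image d).filter Odd, quadraticChar F (subN d a (blk d hd G)).det := by
  obtain ⟨p, hp⟩ := CharP.exists F
  have : Fact p.Prime := ⟨CharP.char_is_prime F p⟩
  have hlt : ∀ k, d k < Finset.univ.sup d + 1 := fun k => Nat.lt_succ_of_le (Finset.le_sup (Finset.mem_univ k))
  have hh := det_commutant hd (M := Finset.univ.sup d + 1) (p := p) hlt (comm_twInv_sym hG)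
    ((IsUnit.of_mul_eq_one _ twInv_twM).mul hu)
  have hGd : G.det = (twM d : Matrix (Ix d) (Ix d) F).det * (twInv d * G).det := by
    rw [← Matrix.det_mul, ← Matrix.mul_assoc, twM_twInv, Matrix.one_mul]
  rw [hGd, map_mul, hh, map_prod]
  rw [show lead d hd (twInv d * G) = blk d hd G from rfl]
  congr 1
  rw [Finset.prod_fin_eq_prod_range]
  symm
  refine Finset.prod_subset_one_on_sdiff ?_ ?_ ?_
  · intro a ha
    obtain ⟨k, -, rfl⟩ := Finset.mem_image.1 (Finset.mem_filter.1 ha).1
    exact Finset.mem_range.2 (hlt k)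
  · intro a ha
    obtain ⟨ha, hna⟩ := Finset.mem_sdiff.1 ha
    rw [dif_pos (Finset.mem_range.1 ha), map_pow]
    rcases Nat.even_or_odd a with he | ho
    · obtain ⟨c, hc⟩ := he
      simp only [hc]
      rw [← two_mul, pow_mul, quadraticChar_sq_one (subN_blk_det_ne_zero_sym hd hG hu _), one_pow]
    · have : IsEmpty {k : Fin t // d k = a} := ⟨fun k =>
        hna (Finset.mem_filter.2 ⟨k.2 ▸ Finset.mem_image_of_mem d (Finset.mem_univ k.1), ho⟩)⟩
      rw [Matrix.det_isEmpty, map_one, one_pow]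
  · intro a ha
    obtain ⟨ha', ho⟩ := Finset.mem_filter.1 ha
    obtain ⟨k, -, rfl⟩ := Finset.mem_image.1 ha'
    rw [dif_pos (hlt k), map_pow]
    obtain ⟨c, hc⟩ := ho
    simp only [hc]
    rw [pow_succ, pow_mul, quadraticChar_sq_one (subN_blk_det_ne_zero_sym hd hG hu _), one_pow, one_mul]

end CfsgLib.OrthClassNum
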