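import Mathlib
import Cfsg.Agent.Lib.SpClassNum.Classify
import Cfsg.Agent.Lib.OrthClassNum.SymForm

/-!
Isometries of a symmetric form inside one similarity class: the square classes of the forms on the odd parts at
the eigenvalues `±1`, tied by the discriminant (Wall), in odd characteristic.
-/

set_option autoImplicit false

namespace CfsgLib.OrthClassNum

open Matrix CfsgLib.SympUnip CfsgLib.UnitaryUnip CfsgLib.SpClassNum

variable {F : Type*} [Field F]

/-- An isometry and its invariant form split at an eigenvalue one. -/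
theorem isometry_blocks_sym {α β : Type*} [Fintype α] [DecidableEq α] [Fintype β] [DecidableEq β]
    {La : Matrix α α F} {Lb : Matrix β β F} {G : Matrix (α ⊕ β) (α ⊕ β) F} (hLa : IsNilpotent (La - 1))
    (hLb : IsUnit (Lb - 1)) (h : (fromBlocks La 0 0 Lb)ᵀ * G * fromBlocks La 0 0 Lb = G) (hG : Gᵀ = G)
    (hu : IsUnit G) :
    G = fromBlocks G.toBlocks₁₁ 0 0 G.toBlocks₂₂ ∧
      (Laᵀ * G.toBlocks₁₁ * La = G.toBlocks₁₁ ∧ G.toBlocks₁₁ᵀ = G.toBlocks₁₁ ∧ IsUnit G.toBlocks₁₁) ∧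
      (Lbᵀ * G.toBlocks₂₂ * Lb = G.toBlocks₂₂ ∧ G.toBlocks₂₂ᵀ = G.toBlocks₂₂ ∧ IsUnit G.toBlocks₂₂) := by
  set G11 := G.toBlocks₁₁
  set G12 := G.toBlocks₁₂
  set G21 := G.toBlocks₂₁
  set G22 := G.toBlocks₂₂
  have hb : G = fromBlocks G11 G12 G21 G22 := (fromBlocks_toBlocks G).symm
  rw [hb, fromBlocks_transpose, fromBlocks_multiply, fromBlocks_multiply] at h
  simp only [transpose_zero, Matrix.zero_mul, Matrix.mul_zero, add_zero, zero_add, fromBlocks_inj] at h
  obtain ⟨h11, h12, -, h22⟩ := h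
  rw [hb, fromBlocks_transpose, fromBlocks_inj] at hG
  obtain ⟨t11, t21, -, t22⟩ := hG
  have hc : Lb * (Lb - 1) = (Lb - 1) * Lb := by rw [Matrix.mul_sub, Matrix.sub_mul, Matrix.mul_one, Matrix.one_mul]
  have hkey : ∀ k : ℕ, (1 - Laᵀ) ^ k * G12 * Lb ^ k = G12 * (Lb - 1) ^ k := by
    intro k
    induction k with
    | zero => simp
    | succ k ih =>
      calc (1 - Laᵀ) ^ (k + 1) * G12 * Lb ^ (k + 1)
          = (1 - Laᵀ) * ((1 - Laᵀ) ^ k * G12 * Lb ^ k) * Lb := by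
            rw [pow_succ', pow_succ]; simp only [Matrix.mul_assoc]
        _ = (1 - Laᵀ) * G12 * ((Lb - 1) ^ k * Lb) := by rw [ih]; simp only [Matrix.mul_assoc]
        _ = (1 - Laᵀ) * G12 * Lb * (Lb - 1) ^ k := by
            rw [(show Commute (Lb - 1) Lb from hc.symm).pow_left k |>.eq]; simp only [Matrix.mul_assoc]
        _ = (G12 * Lb - G12) * (Lb - 1) ^ k := by
            rw [Matrix.sub_mul (1 : Matrix α α F), Matrix.one_mul, Matrix.sub_mul G12, h12]
        _ = _ := by rw [pow_succ', ← Matrix.mul_assoc, Matrix.mul_sub, Matrix.mul_one]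
  obtain ⟨j, hj⟩ := hLa
  have hj' : (1 - Laᵀ) ^ j = 0 := by
    rw [show (1 : Matrix α α F) - Laᵀ = (-(La - 1))ᵀ by rw [neg_sub, transpose_sub, transpose_one],
      ← transpose_pow, neg_pow, hj, Matrix.mul_zero, transpose_zero]
  have hG12 : G12 = 0 := by
    obtain ⟨u, hu'⟩ := hLb.pow j
    have h0 := hkey j
    rw [hj', Matrix.zero_mul, Matrix.zero_mul, ← hu'] at h0
    calc G12 = G12 * (u : Matrix β β F) * (↑u⁻¹ : Matrix β β F) := by
          rw [Matrix.mul_assoc, u.mul_inv, Matrix.mul_one]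
      _ = 0 := by rw [← h0, Matrix.zero_mul]
  have hG21 : G21 = 0 := by
    rw [hG12] at t21
    simpa using congrArg Matrix.transpose t21
  rw [hb, hG12, hG21, Matrix.isUnit_fromBlocks_zero₁₂] at hu
  refine ⟨?_, ⟨h11, t11, hu.1⟩, h22, t22, hu.2⟩
  conv_lhs => rw [hb, hG12, hG21]

variable [Fintype F]

theorem isSymForm_of_isometry {t : ℕ} {d : Fin t → ℕ} {X G : Matrix (Ix d) (Ix d) F}
    (h1 : IsUnit (X + 1)) (h2 : cay X = jshift d) (hiso : Xᵀ * G * X = G) (hsym : Gᵀ = G) :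
    IsSymForm d G := by
  refine ⟨hsym, ?_⟩
  rw [← h2]
  exact cay_skew h1 hiso

/-- Two forms preserved by a matrix without eigenvalues `±1` are congruent under its centraliser. -/
theorem congr_no_root_sym {β : Type*} [Fintype β] [DecidableEq β] {M G G' : Matrix β β F} (hM1 : IsUnit (M - 1))
    (hM2 : IsUnit (M + 1)) (hM : Mᵀ * G * M = G) (hG : Gᵀ = G) (hu : IsUnit G) (hM' : Mᵀ * G' * M = G')
    (hG' : G'ᵀ = G') (hu' : IsUnit G') :
    ∃ U : Matrix β β F, U * M = M * U ∧ IsUnit U ∧ Uᵀ * G * U = G' := by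
  obtain ⟨g, hg⟩ := hu
  let Gi : Matrix β β F := (↑g⁻¹ : Matrix β β F)
  have hGi : G * Gi = 1 := by rw [← hg]; exact g.mul_inv
  have hiG : Gi * G = 1 := by rw [← hg]; exact g.inv_mul
  have hGit : Giᵀ = Gi := by
    have h1 : Giᵀ * G = 1 := by rw [← hG, ← transpose_mul, hGi, transpose_one]
    calc Giᵀ = Giᵀ * G * Gi := by rw [Matrix.mul_assoc, hGi, Matrix.mul_one]
      _ = Gi := by rw [h1, Matrix.one_mul]
  let τ : Matrix β β F → Matrix β β F := fun Y => Gi * Yᵀ * G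
  have hadd : ∀ a b, τ (a + b) = τ a + τ b := fun a b => by
    simp only [τ, transpose_add, Matrix.mul_add, Matrix.add_mul]
  have hmul : ∀ a b, τ (a * b) = τ b * τ a := fun a b => by
    simp only [τ, transpose_mul, Matrix.mul_assoc]
    rw [← Matrix.mul_assoc G Gi, hGi, Matrix.one_mul]
  have hinv : ∀ a, τ (τ a) = a := fun a => by
    simp only [τ, transpose_mul, transpose_transpose, hG, hGit, Matrix.mul_assoc]
    rw [← Matrix.mul_assoc Gi G, hiG, Matrix.one_mul]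
    simp only [Matrix.mul_assoc, hiG, Matrix.mul_one]
  set Mi := τ M with hMi
  have hMiM : Mi * M = 1 := by
    simp only [hMi, τ, Matrix.mul_assoc]
    rw [← Matrix.mul_assoc Mᵀ, hM, hiG]
  have hMMi : M * Mi = 1 := mul_eq_one_comm.1 hMiM
  set W := Gi * G' with hW
  have hMG : M * Gi * Mᵀ = Gi := by
    have h1 : M * Gi * Mᵀ * G = 1 := by
      have := hMMi
      simp only [hMi, τ, Matrix.mul_assoc] at this ⊢
      exact this
    calc M * Gi * Mᵀ = M * Gi * Mᵀ * (G * Gi) := by rw [hGi, Matrix.mul_one]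
      _ = Gi := by rw [← Matrix.mul_assoc, h1, Matrix.one_mul]
  have hWM : W * M = M * W := by
    calc W * M = M * Gi * Mᵀ * G' * M := by rw [hMG, hW]
      _ = M * Gi * (Mᵀ * G' * M) := by simp only [Matrix.mul_assoc]
      _ = M * W := by rw [hM', hW, Matrix.mul_assoc]
  have hWMi : W * Mi = Mi * W := by
    calc W * Mi = Mi * (M * W) * Mi := by rw [← Matrix.mul_assoc Mi, hMiM, Matrix.one_mul]
      _ = Mi * W := by rw [← hWM, Matrix.mul_assoc, Matrix.mul_assoc W, hMMi, Matrix.mul_one]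
  have hWτ : τ W = W := by
    simp only [τ, hW, transpose_mul, hG', hGit]
    simp only [Matrix.mul_assoc, hiG, Matrix.mul_one]
  let S : Set (Matrix β β F) := {M, Mi, W}
  have hcomm : ∀ a ∈ S, ∀ b ∈ S, a * b = b * a := by
    rintro a (ha | ha | ha) b (hb | hb | hb) <;> rw [ha, hb] <;>
      first
        | exact hWM
        | exact hWM.symm
        | exact hWMi
        | exact hWMi.symm
        | exact hMMi.trans hMiM.symm
        | exact hMiM.trans hMMi.symm
  have hS : ∀ a ∈ S, τ a ∈ Subring.closure S := by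
    rintro a (ha | ha | ha) <;> rw [ha]
    · exact Subring.subset_closure (Or.inr (Or.inl hMi.symm))
    · rw [hMi, hinv]; exact Subring.subset_closure (Or.inl rfl)
    · rw [hWτ]; exact Subring.subset_closure (Or.inr (Or.inr rfl))
  have hω : IsUnit (M - τ M) := by
    have e : M - τ M = Mi * ((M - 1) * (M + 1)) := by
      rw [show (M - 1) * (M + 1) = M * M - 1 by noncomm_ring, Matrix.mul_sub, Matrix.mul_one,
        ← Matrix.mul_assoc, hMiM, Matrix.one_mul]
    rw [e]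
    exact (IsUnit.of_mul_eq_one _ hMiM).mul (hM1.mul hM2)
  have hWu : IsUnit W := (IsUnit.of_mul_eq_one _ hiG).mul hu'
  obtain ⟨a, haS, ha⟩ := CfsgLib.IsomConj.exists_star_mul_self τ hadd hmul hinv S hcomm hS M
    (Subring.subset_closure (Or.inl rfl)) hω W (Subring.subset_closure (Or.inr (Or.inr rfl))) hWu hWτ
  obtain ⟨hQ, -, -⟩ := CfsgLib.IsomConj.exists_closure_involution τ hadd hmul hinv S hcomm hS
  refine ⟨a, hQ a haS M (Subring.subset_closure (Or.inl rfl)), ?_, ?_⟩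
  · obtain ⟨w, hw⟩ := hWu
    refine IsUnit.of_mul_eq_one_right ((↑w⁻¹ : Matrix β β F) * τ a) ?_
    rw [Matrix.mul_assoc, ha, ← hw, w.inv_mul]
  · calc aᵀ * G * a = G * (τ a * a) := by
          simp only [τ, Matrix.mul_assoc]
          rw [← Matrix.mul_assoc G Gi, hGi, Matrix.one_mul]
      _ = G' := by rw [ha, hW, ← Matrix.mul_assoc, hGi, Matrix.one_mul]

/-- The odd parts. -/
def oddParts {t : ℕ} (d : Fin t → ℕ) : Finset ℕ := (Finset.univ.image d).filter Odd

open scoped Classical in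
/-- The character of the square class of a form at the parts of length `a`. -/
noncomputable def partSign {t : ℕ} (d : Fin t → ℕ) (hd : ∀ k, 0 < d k) (G : Matrix (Ix d) (Ix d) F) (a : ℕ) : ℤ :=
  quadraticChar F (subN d a (blk d hd G)).det

theorem congr_of_partSign (h2 : (2 : F) ≠ 0) {t : ℕ} {d : Fin t → ℕ} (hd : ∀ k, 0 < d k)
    {X G G' : Matrix (Ix d) (Ix d) F} (h1 : IsUnit (X + 1)) (hX : cay X = jshift d)
    (hM : Xᵀ * G * X = G) (hG : Gᵀ = G) (hu : IsUnit G) (hM' : Xᵀ * G' * X = G') (hG' : G'ᵀ = G')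
    (hu' : IsUnit G') (hsig : ∀ a ∈ oddParts d, partSign d hd G a = partSign d hd G' a) :
    ∃ U : Matrix (Ix d) (Ix d) F, U * X = X * U ∧ IsUnit U ∧ Uᵀ * G * U = G' := by
  classical
  obtain ⟨p, hp⟩ := CharP.exists F
  have : Fact p.Prime := ⟨CharP.char_is_prime F p⟩
  have hp2 : p ≠ 2 := fun h => h2 (by subst h; exact_mod_cast CharP.cast_eq_zero F 2)
  have hs := isSymForm_of_isometry h1 hX hM hG
  have hs' := isSymForm_of_isometry h1 hX hM' hG'
  obtain ⟨U, hUc, hUu, hU⟩ := congr_of_squares_sym hd hp2 h2 hs hu hs' hu' (M := Finset.univ.sup d + 1)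
    (fun k => Nat.lt_succ_of_le (Finset.le_sup (Finset.mem_univ k))) (fun k hk => by
      have h := hsig (d k) (Finset.mem_filter.2 ⟨Finset.mem_image_of_mem d (Finset.mem_univ k), hk⟩)
      unfold partSign at h
      rw [← quadraticChar_one_iff_isSquare (subN_blk_det_ne_zero_sym hd hs hu _),
        ← quadraticChar_one_iff_isSquare (subN_blk_det_ne_zero_sym hd hs' hu' _), h])
  exact ⟨U, commute_of_commute_shift h2 h1 hX hUc hUu, hUu, hU⟩

variable {m : ℕ} {A : Matrix (Fin m) (Fin m) F}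


theorem sym_blocks (C : Coords A)
    {G : Matrix (Ix C.dp ⊕ (Ix C.dm ⊕ Fin C.b)) (Ix C.dp ⊕ (Ix C.dm ⊕ Fin C.b)) F}
    (h : C.Lᵀ * G * C.L = G) (hG : Gᵀ = G) (hu : IsUnit G) :
    ∃ (Gp : Matrix (Ix C.dp) (Ix C.dp) F) (Gm : Matrix (Ix C.dm) (Ix C.dm) F) (Go : Matrix (Fin C.b) (Fin C.b) F),
      G = fromBlocks Gp 0 0 (fromBlocks Gm 0 0 Go) ∧
      (C.Xpᵀ * Gp * C.Xp = Gp ∧ Gpᵀ = Gp ∧ IsUnit Gp) ∧
      (C.Xmᵀ * Gm * C.Xm = Gm ∧ Gmᵀ = Gm ∧ IsUnit Gm) ∧
      (C.Mᵀ * Go * C.M = Go ∧ Goᵀ = Go ∧ IsUnit Go) := by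
  have hp := isNilpotent_sub_one_of_cay C.hdp C.hp1 C.hp2
  have hm := isNilpotent_sub_one_of_cay C.hdm C.hm1 C.hm2
  have hY : IsUnit (fromBlocks (-C.Xm) 0 0 C.M - 1) := by
    rw [← Matrix.fromBlocks_one, sub_eq_add_neg, Matrix.fromBlocks_neg, Matrix.fromBlocks_add]
    simp only [neg_zero, add_zero]
    rw [Matrix.isUnit_fromBlocks_zero₁₂, ← neg_add, ← sub_eq_add_neg]
    exact ⟨C.hm1.neg, C.hM1⟩
  obtain ⟨e1, hGp, hR, tR, uR⟩ := isometry_blocks_sym hp hY h hG hu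
  have hR' : (fromBlocks C.Xm 0 0 (-C.M))ᵀ * G.toBlocks₂₂ * fromBlocks C.Xm 0 0 (-C.M) = G.toBlocks₂₂ := by
    have e : fromBlocks C.Xm 0 0 (-C.M) = -fromBlocks (-C.Xm) 0 0 C.M := by simp [Matrix.fromBlocks_neg]
    rw [e, transpose_neg, Matrix.neg_mul, Matrix.neg_mul, Matrix.mul_neg, neg_neg]
    exact hR
  have hM' : IsUnit (-C.M - 1) := by rw [← neg_add']; exact C.hM2.neg
  obtain ⟨e2, hGm, hO, tO, uO⟩ := isometry_blocks_sym hm hM' hR' tR uR
  refine ⟨_, _, _, ?_, hGp, hGm, ?_, tO, uO⟩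
  · rw [← e2]; exact e1
  · rw [transpose_neg, Matrix.neg_mul, Matrix.neg_mul, Matrix.mul_neg, neg_neg] at hO
    exact hO

/-- The odd parts at both eigenvalues. -/
def oddAll (C : Coords A) : Finset (ℕ ⊕ ℕ) := (oddParts C.dp).disjSum (oddParts C.dm)

/-- The characters of the square classes of a form in the coordinates. -/
noncomputable def signs (C : Coords A)
    (G : Matrix (Ix C.dp ⊕ (Ix C.dm ⊕ Fin C.b)) (Ix C.dp ⊕ (Ix C.dm ⊕ Fin C.b)) F) : ℕ ⊕ ℕ → ℤ :=
  Sum.elim (partSign C.dp C.hdp G.toBlocks₁₁) (partSign C.dm C.hdm G.toBlocks₂₂.toBlocks₁₁)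

theorem exists_congr_sym (h2 : (2 : F) ≠ 0) (C : Coords A)
    {G G' : Matrix (Ix C.dp ⊕ (Ix C.dm ⊕ Fin C.b)) (Ix C.dp ⊕ (Ix C.dm ⊕ Fin C.b)) F}
    (h : C.Lᵀ * G * C.L = G) (hG : Gᵀ = G) (hu : IsUnit G)
    (h' : C.Lᵀ * G' * C.L = G') (hG' : G'ᵀ = G') (hu' : IsUnit G')
    (hs : ∀ x ∈ oddAll C, signs C G x = signs C G' x) :
    ∃ U, U * C.L = C.L * U ∧ Uᵀ * G * U = G' := by
  obtain ⟨Gp, Gm, Go, rfl, ⟨p1, p2, p3⟩, ⟨q1, q2, q3⟩, o1, o2, o3⟩ := sym_blocks C h hG hu
  obtain ⟨Gp', Gm', Go', rfl, ⟨p1', p2', p3'⟩, ⟨q1', q2', q3'⟩, o1', o2', o3'⟩ := sym_blocks C h' hG' hu'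
  obtain ⟨Up, cp, -, ep⟩ := congr_of_partSign h2 C.hdp C.hp1 C.hp2 p1 p2 p3 p1' p2' p3' fun a ha => by
    simpa [signs] using hs (Sum.inl a) (Finset.inl_mem_disjSum.2 ha)
  obtain ⟨Um, cm, -, em⟩ := congr_of_partSign h2 C.hdm C.hm1 C.hm2 q1 q2 q3 q1' q2' q3' fun a ha => by
    simpa [signs] using hs (Sum.inr a) (Finset.inr_mem_disjSum.2 ha)
  obtain ⟨Uo, co, -, eo⟩ := congr_no_root_sym C.hM1 C.hM2 o1 o2 o3 o1' o2' o3'
  refine ⟨fromBlocks Up 0 0 (fromBlocks Um 0 0 Uo), ?_, ?_⟩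
  · simp [Coords.L, Matrix.fromBlocks_multiply, cp, cm, co]
  · simp [Matrix.fromBlocks_transpose, Matrix.fromBlocks_multiply, ep, em, eo]

open scoped Classical in
/-- Forms with the same discriminant have the same product of signs. -/
theorem prod_signs_eq (C : Coords A)
    {G G' : Matrix (Ix C.dp ⊕ (Ix C.dm ⊕ Fin C.b)) (Ix C.dp ⊕ (Ix C.dm ⊕ Fin C.b)) F}
    (h : C.Lᵀ * G * C.L = G) (hG : Gᵀ = G) (hu : IsUnit G)
    (h' : C.Lᵀ * G' * C.L = G') (hG' : G'ᵀ = G') (hu' : IsUnit G')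
    (hd : quadraticChar F G.det = quadraticChar F G'.det) :
    ∏ x ∈ oddAll C, signs C G x = ∏ x ∈ oddAll C, signs C G' x := by
  obtain ⟨Gp, Gm, Go, rfl, ⟨p1, p2, p3⟩, ⟨q1, q2, q3⟩, o1, o2, o3⟩ := sym_blocks C h hG hu
  obtain ⟨Gp', Gm', Go', rfl, ⟨p1', p2', p3'⟩, ⟨q1', q2', q3'⟩, o1', o2', o3'⟩ := sym_blocks C h' hG' hu'
  obtain ⟨Uo, -, huo, eo⟩ := congr_no_root_sym C.hM1 C.hM2 o1 o2 o3 o1' o2' o3'
  have hUo : Uo.det ≠ 0 := ((Matrix.isUnit_iff_isUnit_det _).1 huo).ne_zero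
  have hgo : quadraticChar F Go'.det = quadraticChar F Go.det := by
    rw [← eo, det_mul, det_mul, det_transpose, map_mul, map_mul, mul_right_comm, ← sq,
      quadraticChar_sq_one hUo, one_mul]
  have hne : ∀ {ι : Type} [Fintype ι] [DecidableEq ι] {X : Matrix ι ι F}, IsUnit X → X.det ≠ 0 :=
    fun hX => ((Matrix.isUnit_iff_isUnit_det _).1 hX).ne_zero
  simp only [det_fromBlocks_zero₂₁, map_mul, hgo,
    quadraticChar_det C.hdp (isSymForm_of_isometry C.hp1 C.hp2 p1 p2) p3,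
    quadraticChar_det C.hdp (isSymForm_of_isometry C.hp1 C.hp2 p1' p2') p3',
    quadraticChar_det C.hdm (isSymForm_of_isometry C.hm1 C.hm2 q1 q2) q3,
    quadraticChar_det C.hdm (isSymForm_of_isometry C.hm1 C.hm2 q1' q2') q3'] at hd
  simp only [oddAll, Finset.prod_disjSum, signs, Sum.elim_inl, Sum.elim_inr, toBlocks_fromBlocks₁₁,
    toBlocks_fromBlocks₂₂]
  have hgo0 : quadraticChar F Go.det ≠ 0 := by rw [Ne, quadraticChar_eq_zero_iff]; exact hne o3
  have htw : ∀ {t : ℕ} (d : Fin t → ℕ), quadraticChar F (twM d : Matrix (Ix d) (Ix d) F).det ≠ 0 := fun d => by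
    rw [Ne, quadraticChar_eq_zero_iff]; exact hne (IsUnit.of_mul_eq_one _ twM_twInv)
  refine mul_left_cancel₀ (mul_ne_zero (mul_ne_zero (htw C.dp) (htw C.dm)) hgo0) ?_
  unfold partSign oddParts
  linear_combination hd

/-- Isometries similar to `A`: at most one class for each choice of square classes. -/
theorem card_similar_le_sym (h2 : (2 : F) ≠ 0) (C : Coords A) {J : Matrix (Fin m) (Fin m) F}
    (hJ : Jᵀ = J) (hJu : IsUnit J) {K : Type*} [Finite K] (B : K → Matrix (Fin m) (Fin m) F)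
    (hB : ∀ k, (B k)ᵀ * J * B k = J) (T : K → GL (Fin m) F)
    (hT : ∀ k, (T k : Matrix (Fin m) (Fin m) F) * A = B k * T k)
    (hinj : ∀ k k' (Z : Matrix (Fin m) (Fin m) F), Zᵀ * J * Z = J → Z * B k = B k' * Z → k = k') :
    Nat.card K ≤ 2 ^ ((oddAll C).card - 1) := by
  classical
  have hL : A * C.P = C.P * C.L := C.eq
  let TP := fun k => (T k : Matrix (Fin m) (Fin m) F) * C.P
  let QT := fun k => C.Q * ((T k)⁻¹ : GL (Fin m) F).1
  have hTQ : ∀ k, TP k * QT k = 1 ∧ QT k * TP k = 1 := fun k => by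
    constructor
    · simp only [TP, QT, Matrix.mul_assoc]
      rw [← Matrix.mul_assoc C.P, C.hPQ, Matrix.one_mul, Units.mul_inv]
    · simp only [TP, QT, Matrix.mul_assoc]
      rw [← Matrix.mul_assoc ((T k)⁻¹ : GL (Fin m) F).1, Units.inv_mul, Matrix.one_mul, C.hQP]
  have hBT : ∀ k, B k * TP k = TP k * C.L := fun k => by
    simp only [TP]
    rw [← Matrix.mul_assoc, ← hT, Matrix.mul_assoc, hL, ← Matrix.mul_assoc]
  have hBQ : ∀ k, QT k * B k = C.L * QT k := fun k => by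
    calc QT k * B k = QT k * B k * (TP k * QT k) := by rw [(hTQ k).1, Matrix.mul_one]
      _ = QT k * (B k * TP k) * QT k := by simp only [Matrix.mul_assoc]
      _ = QT k * TP k * C.L * QT k := by rw [hBT, ← Matrix.mul_assoc (QT k)]
      _ = _ := by rw [(hTQ k).2, Matrix.one_mul]
  let G := fun k => (TP k)ᵀ * J * TP k
  have hGiso : ∀ k, C.Lᵀ * G k * C.L = G k := fun k => by
    calc C.Lᵀ * G k * C.L = (TP k * C.L)ᵀ * J * (TP k * C.L) := by
          simp only [G, transpose_mul, Matrix.mul_assoc]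
      _ = (TP k)ᵀ * ((B k)ᵀ * J * B k) * TP k := by
          rw [← hBT, transpose_mul]; simp only [Matrix.mul_assoc]
      _ = G k := by rw [hB]
  have hGsym : ∀ k, (G k)ᵀ = G k := fun k => by
    simp only [G, transpose_mul, transpose_transpose, hJ, Matrix.mul_assoc]
  have hGu : ∀ k, IsUnit (G k) := fun k => by
    obtain ⟨j, hj⟩ := hJu
    refine IsUnit.of_mul_eq_one (QT k * (↑j⁻¹ : Matrix (Fin m) (Fin m) F) * (QT k)ᵀ) ?_
    calc G k * (QT k * (↑j⁻¹ : Matrix (Fin m) (Fin m) F) * (QT k)ᵀ)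
        = (TP k)ᵀ * (J * (TP k * QT k) * (↑j⁻¹ : Matrix (Fin m) (Fin m) F)) * (QT k)ᵀ := by
          simp only [G, Matrix.mul_assoc]
      _ = 1 := by
          rw [(hTQ k).1, Matrix.mul_one, ← hj, j.mul_inv, Matrix.mul_one, ← transpose_mul, (hTQ k).2,
            transpose_one]
  have hsq : ∀ k, quadraticChar F (G k).det = quadraticChar F (C.Pᵀ * J * C.P).det := fun k => by
    have e : G k = C.Pᵀ * (((T k : Matrix (Fin m) (Fin m) F))ᵀ * J * (T k : Matrix (Fin m) (Fin m) F)) * C.P := by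
      simp only [G, TP, transpose_mul, Matrix.mul_assoc]
    let e0 : (Ix C.dp ⊕ (Ix C.dm ⊕ Fin C.b)) ≃ Fin m :=
      Fintype.equivOfCardEq (Matrix.square_of_invertible C.Q C.P C.hQP C.hPQ)
    have hd : ∀ X : Matrix (Fin m) (Fin m) F, (C.Pᵀ * X * C.P).det = (C.P.submatrix id e0.symm).det ^ 2 * X.det := by
      intro X
      rw [← Matrix.det_submatrix_equiv_self e0.symm]
      rw [← Matrix.submatrix_mul_equiv _ C.P e0.symm (Equiv.refl _) e0.symm,
        ← Matrix.submatrix_mul_equiv C.Pᵀ X e0.symm (Equiv.refl _) (Equiv.refl _),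
        det_mul, det_mul, ← transpose_submatrix, det_transpose]
      simp only [Equiv.coe_refl, submatrix_id_id]
      ring
    rw [e, hd, hd, det_mul, det_mul, det_transpose, map_mul, map_mul, map_mul, map_mul]
    have hT : quadraticChar F (T k : Matrix (Fin m) (Fin m) F).det ^ 2 = 1 :=
      quadraticChar_sq_one ((Matrix.isUnit_iff_isUnit_det _).1 (T k).isUnit).ne_zero
    linear_combination (quadraticChar F ((C.P.submatrix id e0.symm).det ^ 2) * quadraticChar F J.det) * hT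
  have hval : ∀ k, ∀ x ∈ oddAll C, signs C (G k) x = 1 ∨ signs C (G k) x = -1 := by
    intro k x hx
    obtain ⟨Gp, Gm, Go, hGe, ⟨p1, p2, p3⟩, ⟨q1, q2, q3⟩, -⟩ := sym_blocks C (hGiso k) (hGsym k) (hGu k)
    rw [hGe]
    rcases x with a | a <;>
      simp only [signs, Sum.elim_inl, Sum.elim_inr, toBlocks_fromBlocks₁₁, toBlocks_fromBlocks₂₂, partSign]
    · exact quadraticChar_dichotomy
        (subN_blk_det_ne_zero_sym C.hdp (isSymForm_of_isometry C.hp1 C.hp2 p1 p2) p3 a)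
    · exact quadraticChar_dichotomy
        (subN_blk_det_ne_zero_sym C.hdm (isSymForm_of_isometry C.hm1 C.hm2 q1 q2) q3 a)
  have key : ∀ S : Finset (ℕ ⊕ ℕ), (oddAll C).card ≤ S.card + 1 → S ⊆ oddAll C → ∀ k k',
      S.filter (fun x => signs C (G k) x = 1) = S.filter (fun x => signs C (G k') x = 1) → k = k' := by
    intro S hcard hS k k' h
    have heq : ∀ x ∈ S, signs C (G k) x = signs C (G k') x := by
      intro x hx
      have hiff := Finset.ext_iff.1 h x
      simp only [Finset.mem_filter, hx, true_and] at hiff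
      rcases hval k x (hS hx) with h1 | h1 <;> rcases hval k' x (hS hx) with h3 | h3 <;>
        simp [h1, h3] at hiff ⊢
    have hall : ∀ x ∈ oddAll C, signs C (G k) x = signs C (G k') x := by
      intro x hx
      by_cases hxS : x ∈ S
      · exact heq x hxS
      have hone : oddAll C \ S = {x} := by
        refine Finset.eq_singleton_iff_unique_mem.2 ⟨Finset.mem_sdiff.2 ⟨hx, hxS⟩, fun y hy => ?_⟩
        refine Finset.card_le_one.1 ?_ y hy x (Finset.mem_sdiff.2 ⟨hx, hxS⟩)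
        rw [Finset.card_sdiff_of_subset hS]
        omega
      have hprod := prod_signs_eq C (hGiso k) (hGsym k) (hGu k) (hGiso k') (hGsym k') (hGu k')
        ((hsq k).trans (hsq k').symm)
      rw [← Finset.prod_sdiff hS, ← Finset.prod_sdiff hS, hone, Finset.prod_singleton, Finset.prod_singleton,
        Finset.prod_congr rfl heq] at hprod
      refine mul_right_cancel₀ (Finset.prod_ne_zero_iff.2 fun y hy => ?_) hprod
      rcases hval k' y (hS hy) with h1 | h1 <;> rw [h1] <;> decide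
    obtain ⟨U, hUc, hU⟩ := exists_congr_sym h2 C (hGiso k) (hGsym k) (hGu k) (hGiso k') (hGsym k') (hGu k') hall
    refine (hinj k' k (TP k * U * QT k') ?_ ?_).symm
    · calc (TP k * U * QT k')ᵀ * J * (TP k * U * QT k')
          = (QT k')ᵀ * (Uᵀ * G k * U) * QT k' := by simp only [G, transpose_mul, Matrix.mul_assoc]
        _ = (TP k' * QT k')ᵀ * J * (TP k' * QT k') := by
            rw [hU]; simp only [G, transpose_mul, Matrix.mul_assoc]
        _ = J := by rw [(hTQ k').1, transpose_one, Matrix.one_mul, Matrix.mul_one]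
    · calc TP k * U * QT k' * B k' = TP k * U * (C.L * QT k') := by rw [Matrix.mul_assoc _ (QT k'), hBQ]
        _ = TP k * (C.L * U) * QT k' := by rw [← hUc]; simp only [Matrix.mul_assoc]
        _ = B k * (TP k * U * QT k') := by
            rw [← Matrix.mul_assoc (TP k), ← hBT]; simp only [Matrix.mul_assoc]
  obtain ⟨S, hS, hcard⟩ : ∃ S ⊆ oddAll C, S.card = (oddAll C).card - 1 :=
    Finset.exists_subset_card_eq (Nat.sub_le _ _)
  refine (Nat.card_le_card_of_injective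
    (fun k => (⟨S.filter fun x => signs C (G k) x = 1, Finset.mem_powerset.2 (Finset.filter_subset _ _)⟩ : S.powerset))
    fun k k' h => key S (by omega) hS k k' (congrArg Subtype.val h)).trans (le_of_eq ?_)
  rw [Nat.card_eq_finsetCard, Finset.card_powerset, hcard]

end CfsgLib.OrthClassNum
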