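import Mathlib
import Cfsg.Agent.Lib.SpClassNum.Divisors
import Cfsg.Agent.Lib.OrthClassNum.Classify

/-!
Parts at the eigenvalues `±1` of an isometry of a symmetric form.
-/

set_option autoImplicit false

namespace CfsgLib.OrthClassNum

open Matrix CfsgLib.SympUnip CfsgLib.UnitaryUnip CfsgLib.SpClassNum

variable {F : Type*} [Field F] [Fintype F] {m : ℕ} {A : Matrix (Fin m) (Fin m) F}

/-- Even parts at `±1` of an isometry occur evenly often. -/
theorem even_even_parts (h2 : (2 : F) ≠ 0) (C' : Coords A) {J : Matrix (Fin m) (Fin m) F}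
    (hJ : Jᵀ = J) (hJu : IsUnit J) (hA : Aᵀ * J * A = J) {a : ℕ} (ha : Even a) :
    Even (Fintype.card {k // C'.dp k = a}) ∧ Even (Fintype.card {k // C'.dm k = a}) := by
  have hL : A * C'.P = C'.P * C'.L := C'.eq
  set G := C'.Pᵀ * J * C'.P with hG
  have hiso : C'.Lᵀ * G * C'.L = G := by
    calc C'.Lᵀ * G * C'.L = (C'.P * C'.L)ᵀ * J * (C'.P * C'.L) := by
          simp only [hG, transpose_mul, Matrix.mul_assoc]
      _ = C'.Pᵀ * (Aᵀ * J * A) * C'.P := by rw [← hL, transpose_mul]; simp only [Matrix.mul_assoc]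
      _ = G := by rw [hA]
  have hsym : Gᵀ = G := by
    simp only [hG, transpose_mul, transpose_transpose, hJ, Matrix.mul_assoc]
  have hu : IsUnit G := by
    obtain ⟨j, hj⟩ := hJu
    refine IsUnit.of_mul_eq_one (C'.Q * (↑j⁻¹ : Matrix (Fin m) (Fin m) F) * C'.Qᵀ) ?_
    calc G * (C'.Q * (↑j⁻¹ : Matrix (Fin m) (Fin m) F) * C'.Qᵀ)
        = C'.Pᵀ * (J * (C'.P * C'.Q) * (↑j⁻¹ : Matrix (Fin m) (Fin m) F)) * C'.Qᵀ := by
          simp only [hG, Matrix.mul_assoc]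
      _ = 1 := by
          rw [C'.hPQ, Matrix.mul_one, ← hj, j.mul_inv, Matrix.mul_one, ← transpose_mul, C'.hQP, transpose_one]
  obtain ⟨Gp, Gm, Go, -, ⟨p1, p2, p3⟩, ⟨q1, q2, q3⟩, -⟩ := sym_blocks C' hiso hsym hu
  exact ⟨even_card_of_even C'.hdp h2 (isSymForm_of_isometry C'.hp1 C'.hp2 p1 p2) p3 ha,
    even_card_of_even C'.hdm h2 (isSymForm_of_isometry C'.hm1 C'.hm2 q1 q2) q3 ha⟩

end CfsgLib.OrthClassNum
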