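import Mathlib
import Cfsg.Agent.Lib.SpClassNum.ClassBound
import Cfsg.Agent.Lib.OrthClassNum.Parts
import Cfsg.Agent.Lib.OrthClassNum.Count

/-!
Upper bound for the number of classes of isometries of a symmetric form on `F^m`, odd characteristic.
-/

set_option autoImplicit false

namespace CfsgLib.OrthClassNum

open Polynomial Matrix CfsgLib.SympUnip CfsgLib.UnitaryUnip CfsgLib.SpecGL CfsgLib.SpecUnitary CfsgLib.SpClassNum

universe u

variable {F : Type u} [Field F] [Fintype F] {m : ℕ}

open scoped Classical in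
/-- The bound with a restriction on the divisor polynomials. -/
theorem card_orth_classes_le_aux (h2 : (2 : F) ≠ 0) {J : Matrix (Fin m) (Fin m) F} (hJ : Jᵀ = J)
    (hJu : IsUnit J) {K : Type u} [Finite K] (A : K → Matrix (Fin m) (Fin m) F)
    (hA : ∀ k, (A k)ᵀ * J * A k = J)
    (hinj : ∀ k k' (Z : Matrix (Fin m) (Fin m) F), Zᵀ * J * Z = J → Z * A k = A k' * Z → k = k')
    (P : ℕ → F[X] → Prop)
    (hP : ∀ k (s : Multiset (F[X] × ℕ)), GoodDivisors s → HasDivisors (A k) s → ∀ i : Fin m,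
      P ((i : ℕ) + 1) (exponentPoly s i)) :
    2 * Nat.card K ≤
      (∑ t ∈ tuples F m m, if ∀ i : Fin m, PartOk (shiftUp ((i : ℕ) + 1)) (t i) ∧ P ((i : ℕ) + 1) (t i) then
        ∏ i : Fin m, partWeight (shiftUp ((i : ℕ) + 1)) (t i) else 0) +
      gCount (Fintype.card F) shiftOne m m := by
  classical
  have hJd : IsUnit J.det := (Matrix.isUnit_iff_isUnit_det _).1 hJu
  have hunit : ∀ k, IsUnit (A k) := fun k => by
    refine IsUnit.of_mul_eq_one_right (J⁻¹ * (A k)ᵀ * J) ?_
    rw [Matrix.mul_assoc, Matrix.mul_assoc, ← Matrix.mul_assoc (A k)ᵀ, hA, Matrix.nonsing_inv_mul _ hJd]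
  choose s hdiv hgood hsum using fun k => exists_divisors (A k) (hunit k)
  let h : K → Fin m → F[X] := fun k i => exponentPoly (s k) i
  have hmem : ∀ k, h k ∈ tuples F m m := fun k => mem_tuples
    (fun i => ⟨GoodDivisors.monic_exponentPoly (hgood k) i, GoodDivisors.coeff_zero_exponentPoly (hgood k) i⟩)
    (GoodDivisors.weight_exponentPoly (hgood k) (hsum k))
  let C := fun k => (exists_coords h2 (A k)).some
  have hcount : ∀ (k : K) (p : F[X]) (i : Fin m),
      (((s k).filter fun x => x.2 = (i : ℕ) + 1).map Prod.fst).count p = (s k).count (p, (i : ℕ) + 1) := by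
    intro k p i
    rw [Multiset.count_map, Multiset.filter_filter, Multiset.count_eq_card_filter_eq]
    refine congrArg Multiset.card (Multiset.filter_congr fun y _ => ?_)
    exact ⟨fun h => Prod.ext h.1 h.2.symm, fun h => ⟨by rw [← h], by rw [← h]⟩⟩
  have hfix : ∀ k (i : Fin m), conjRev (RingHom.id F) (exponentPoly (s k) i) = exponentPoly (s k) i := by
    intro k i
    have hinv := divisors_reverse_invariant hJd (hA k) (hgood k) (hdiv k)
    rw [exponentPoly, conjRev_multiset_prod]
    conv_rhs => rw [← hinv, Multiset.filter_map, Multiset.map_map]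
    rw [Multiset.map_map]
    rfl
  have heven : ∀ k (i : Fin m), Even (Fintype.card {j // (C k).dp j = (i : ℕ) + 1}) →
      Even (Fintype.card {j // (C k).dm j = (i : ℕ) + 1}) → PartOk 1 (h k i) := by
    intro k i hp hq
    refine ⟨hfix k i, fun _ => prod_even_parts h2 (fun p hp' => ?_) (hfix k i) ?_ ?_⟩
    · obtain ⟨x, hx, rfl⟩ := Multiset.mem_map.1 hp'
      exact ⟨(hgood k x (Multiset.mem_of_mem_filter hx)).1, (hgood k x (Multiset.mem_of_mem_filter hx)).2.1⟩
    · rw [hcount, (C k).count_one (hgood k) (hdiv k)]; exact hp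
    · rw [hcount, (C k).count_neg_one h2 (hgood k) (hdiv k)]; exact hq
  have hok : ∀ k (i : Fin m), PartOk (shiftUp ((i : ℕ) + 1)) (h k i) := by
    intro k i
    refine ⟨hfix k i, fun hodd => ?_⟩
    have hev : Even ((i : ℕ) + 1) := by
      rw [shiftUp, Nat.odd_iff] at hodd
      rw [Nat.even_iff]; omega
    obtain ⟨hp, hq⟩ := even_even_parts h2 (C k) hJ hJu (hA k) hev
    exact (heven k i hp hq).2 odd_one
  have : Fintype K := Fintype.ofFinite K
  have hfib : ∀ t ∈ tuples F m m, 2 * (Finset.univ.filter fun k : K => h k = t).card ≤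
      (if ∀ i : Fin m, PartOk (shiftUp ((i : ℕ) + 1)) (t i) ∧ P ((i : ℕ) + 1) (t i) then
        ∏ i : Fin m, partWeight (shiftUp ((i : ℕ) + 1)) (t i) else 0) +
      (if ∀ i : Fin m, PartOk (shiftOne ((i : ℕ) + 1)) (t i) then
        ∏ i : Fin m, partWeight (shiftOne ((i : ℕ) + 1)) (t i) else 0) := by
    intro t ht
    rcases Finset.eq_empty_or_nonempty (Finset.univ.filter fun k : K => h k = t) with he | ⟨k₀, hk₀⟩
    · rw [he]; simp
    rw [Finset.mem_filter] at hk₀
    rw [if_pos fun i => by rw [← hk₀.2]; exact ⟨hok k₀ i, hP k₀ (s k₀) (hgood k₀) (hdiv k₀) i⟩]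
    have hsim : ∀ k : {k : K // h k = t}, ∃ P : GL (Fin m) F,
        (P : Matrix (Fin m) (Fin m) F) * A k₀ = A k.1 * P := fun k => by
      have hss : s k.1 = s k₀ :=
        GoodDivisors.eq_of_exponentPoly_eq (hgood k.1) (hgood k₀)
          (fun y hy => (GoodDivisors.bounds (hgood k.1) (hsum k.1) y hy).2)
          (fun y hy => (GoodDivisors.bounds (hgood k₀) (hsum k₀) y hy).2)
          fun j => congrFun (k.2.trans hk₀.2.symm) j
      exact isConj_of_divisors (hdiv k₀) (by rw [← hss]; exact hdiv k.1)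
    choose T hT using hsim
    have hle := card_similar_le_sym h2 (C k₀) hJ hJu (fun k : {k : K // h k = t} => A k.1) (fun k => hA k.1) T hT
      (fun k k' Z hZ hZA => Subtype.ext (hinj k.1 k'.1 Z hZ hZA))
    rw [Nat.card_eq_fintype_card, Fintype.card_subtype] at hle
    have hmem1 : ∀ a ∈ oddParts (C k₀).dp, 1 ≤ a ∧ a ≤ m ∧ Odd a ∧ (X - Polynomial.C 1, a) ∈ s k₀ := by
      intro a ha
      obtain ⟨ha, hev⟩ := Finset.mem_filter.1 ha
      obtain ⟨j, -, rfl⟩ := Finset.mem_image.1 ha
      have hpos := (C k₀).hdp j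
      have hin : (X - Polynomial.C 1, (C k₀).dp j) ∈ s k₀ := by
        rw [← Multiset.count_pos, show (C k₀).dp j = (C k₀).dp j - 1 + 1 by omega,
          (C k₀).count_one (hgood k₀) (hdiv k₀)]
        exact Fintype.card_pos_iff.2 ⟨⟨j, by omega⟩⟩
      exact ⟨hpos, (GoodDivisors.bounds (hgood k₀) (hsum k₀) _ hin).2, hev, hin⟩
    have hmem2 : ∀ a ∈ oddParts (C k₀).dm,
        1 ≤ a ∧ a ≤ m ∧ Odd a ∧ (X - Polynomial.C (-1 : F), a) ∈ s k₀ := by
      intro a ha
      obtain ⟨ha, hev⟩ := Finset.mem_filter.1 ha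
      obtain ⟨j, -, rfl⟩ := Finset.mem_image.1 ha
      have hpos := (C k₀).hdm j
      have hin : (X - Polynomial.C (-1 : F), (C k₀).dm j) ∈ s k₀ := by
        rw [← Multiset.count_pos, show (C k₀).dm j = (C k₀).dm j - 1 + 1 by omega,
          (C k₀).count_neg_one h2 (hgood k₀) (hdiv k₀)]
        exact Fintype.card_pos_iff.2 ⟨⟨j, by omega⟩⟩
      exact ⟨hpos, (GoodDivisors.bounds (hgood k₀) (hsum k₀) _ hin).2, hev, hin⟩
    have hW : 2 ^ (oddAll (C k₀)).card ≤ ∏ i : Fin m, partWeight (shiftUp ((i : ℕ) + 1)) (t i) := by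
      rw [oddAll, Finset.card_disjSum, pow_add, ← prod_two_eq fun a ha => ⟨(hmem1 a ha).1, (hmem1 a ha).2.1⟩,
        ← prod_two_eq fun a ha => ⟨(hmem2 a ha).1, (hmem2 a ha).2.1⟩, ← Finset.prod_mul_distrib]
      refine Finset.prod_le_prod' fun i _ => ?_
      have hz : ∀ (c : F), (X - Polynomial.C c, (i : ℕ) + 1) ∈ s k₀ → (t i).eval c = 0 := fun c hc => by
        rw [← hk₀.2]
        show (exponentPoly (s k₀) i).eval c = 0
        rw [exponentPoly, eval_multiset_prod, Multiset.map_map]
        exact Multiset.prod_eq_zero (Multiset.mem_map.2 ⟨_, Multiset.mem_filter.2 ⟨hc, rfl⟩, by simp⟩)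
      rw [partWeight]
      by_cases hodd : Odd (shiftUp ((i : ℕ) + 1))
      · have hnot : ¬ Odd ((i : ℕ) + 1) := by
          rw [shiftUp, Nat.odd_iff] at hodd
          rw [Nat.odd_iff]; omega
        rw [if_pos hodd, if_neg fun hh => hnot (hmem1 _ hh).2.2.1, if_neg fun hh => hnot (hmem2 _ hh).2.2.1, one_mul]
      · rw [if_neg hodd]
        refine Nat.mul_le_mul ?_ ?_
        · by_cases hh : (i : ℕ) + 1 ∈ oddParts (C k₀).dp
          · rw [if_pos hh, if_pos (hz 1 (hmem1 _ hh).2.2.2)]
          · rw [if_neg hh]; split_ifs <;> omega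
        · by_cases hh : (i : ℕ) + 1 ∈ oddParts (C k₀).dm
          · rw [if_pos hh, if_pos (hz (-1) (hmem2 _ hh).2.2.2)]
          · rw [if_neg hh]; split_ifs <;> omega
    rcases Nat.eq_zero_or_pos (oddAll (C k₀)).card with h0 | h0
    · rw [oddAll, Finset.card_disjSum] at h0
      have hZ : ∀ i : Fin m, PartOk (shiftOne ((i : ℕ) + 1)) (t i) := by
        intro i
        rw [← hk₀.2]
        rcases Nat.even_or_odd ((i : ℕ) + 1) with hev | hodd
        · obtain ⟨hp, hq⟩ := even_even_parts h2 (C k₀) hJ hJu (hA k₀) hev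
          exact heven k₀ i hp hq
        · have hz : ∀ {t : ℕ} (d : Fin t → ℕ), (oddParts d).card = 0 → Even (Fintype.card {j // d j = (i : ℕ) + 1}) := by
            intro t d hd
            have : IsEmpty {j // d j = (i : ℕ) + 1} := ⟨fun j => by
              have hm : d j.1 ∈ oddParts d :=
                Finset.mem_filter.2 ⟨Finset.mem_image_of_mem d (Finset.mem_univ j.1), j.2.symm ▸ hodd⟩
              rw [Finset.card_eq_zero.1 hd] at hm
              exact Finset.notMem_empty _ hm⟩
            simp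
          exact heven k₀ i (hz _ (by omega)) (hz _ (by omega))
      rw [if_pos hZ]
      have hone : ∏ i : Fin m, partWeight (shiftOne ((i : ℕ) + 1)) (t i) = 1 :=
        Finset.prod_eq_one fun i _ => if_pos odd_one
      rw [oddAll, Finset.card_disjSum, h0] at hle hW
      simp only [pow_zero] at hW hle
      omega
    · obtain ⟨r, hr⟩ : ∃ r, (oddAll (C k₀)).card = r + 1 := ⟨(oddAll (C k₀)).card - 1, by omega⟩
      rw [hr] at hle hW
      rw [pow_succ] at hW
      simp only [Nat.add_sub_cancel] at hle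
      omega
  refine le_trans ?_ (Nat.add_le_add le_rfl (sum_gTuples_le h2 shiftOne m m))
  rw [Nat.card_eq_fintype_card, ← Finset.card_univ,
    Finset.card_eq_sum_card_fiberwise (f := h) (t := tuples F m m) fun k _ => hmem k, Finset.mul_sum,
    ← Finset.sum_add_distrib]
  exact Finset.sum_le_sum hfib

/-- Pairwise non-conjugate isometries are bounded by the two weighted counts. -/
theorem card_orth_classes_le (h2 : (2 : F) ≠ 0) {J : Matrix (Fin m) (Fin m) F} (hJ : Jᵀ = J)
    (hJu : IsUnit J) {K : Type u} [Finite K] (A : K → Matrix (Fin m) (Fin m) F)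
    (hA : ∀ k, (A k)ᵀ * J * A k = J)
    (hinj : ∀ k k' (Z : Matrix (Fin m) (Fin m) F), Zᵀ * J * Z = J → Z * A k = A k' * Z → k = k') :
    2 * Nat.card K ≤ gCount (Fintype.card F) shiftUp m m + gCount (Fintype.card F) shiftOne m m := by
  refine (card_orth_classes_le_aux h2 hJ hJu A hA hinj (fun _ _ => True) fun _ _ _ _ _ => trivial).trans
    (Nat.add_le_add_right (le_trans (le_of_eq ?_) (sum_gTuples_le h2 shiftUp m m)) _)
  refine Finset.sum_congr rfl fun t _ => ?_
  by_cases h : ∀ i : Fin m, PartOk (shiftUp ((i : ℕ) + 1)) (t i)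
  · rw [if_pos h, if_pos fun i => ⟨h i, trivial⟩]
  · rw [if_neg h, if_neg fun h' => h fun i => (h' i).1]

end CfsgLib.OrthClassNum
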