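import Mathlib
import Cfsg.Agent.Lib.SympUnip.Blocks
import Cfsg.Agent.Lib.SpClassNum.Lower

/-!
Characteristic polynomials of isometries of a symmetric form in even dimension: at least `q^n/2` of them.
-/

set_option autoImplicit false

namespace CfsgLib.OrthClassNum

open Polynomial Matrix CfsgLib.SpClassNum

variable {F : Type*} [Field F]

/-- A symmetric pair with prescribed characteristic polynomial. -/
theorem exists_sym_companion {e : ℕ} {f : F[X]} (hm : f.Monic) (hd : f.natDegree = e + 1) :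
    ∃ (D S : Matrix (Fin (e + 1)) (Fin (e + 1)) F),
      Sᵀ = S ∧ (S * D)ᵀ = S * D ∧ S.det ≠ 0 ∧ D.charpoly = f := by
  let R := AdjoinRoot f
  let pb := AdjoinRoot.powerBasis hm.ne_zero
  have hdim : pb.dim = e + 1 := hd
  let b : Module.Basis (Fin (e + 1)) F R := pb.basis.reindex (finCongr hdim)
  let l : R →ₗ[F] F := (lcoeff F e).comp (AdjoinRoot.modByMonicHom hm)
  let D : Matrix (Fin (e + 1)) (Fin (e + 1)) F := Algebra.leftMulMatrix b (AdjoinRoot.root f)
  let S : Matrix (Fin (e + 1)) (Fin (e + 1)) F := Matrix.of fun i j => l (b i * b j)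
  have hS : Sᵀ = S := by ext i j; simp [S, mul_comm]
  have hSD : ∀ i j, (S * D) i j = l (b i * (AdjoinRoot.root f * b j)) := by
    intro i j
    conv_rhs => rw [← b.sum_repr (AdjoinRoot.root f * b j)]
    rw [Matrix.mul_apply, Finset.mul_sum, map_sum]
    refine Finset.sum_congr rfl fun k _ => ?_
    rw [mul_smul_comm, map_smul, smul_eq_mul, mul_comm]
    simp only [S, D, Matrix.of_apply, Algebra.leftMulMatrix_eq_repr_mul]
  have hSDt : (S * D)ᵀ = S * D := by
    ext i j
    rw [Matrix.transpose_apply, hSD, hSD]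
    congr 1
    ring
  have hdet : S.det ≠ 0 := by
    intro h0
    obtain ⟨w, hw0, hw⟩ := Matrix.exists_mulVec_eq_zero_iff.2 h0
    set z := ∑ j, w j • b j with hz
    have hz0 : z ≠ 0 := fun h => hw0 (funext fun j => by
      have := congrArg (fun y => b.repr y j) h
      simpa [hz, Module.Basis.repr_self, Finsupp.single_apply] using this)
    have hkill : ∀ i, l (b i * z) = 0 := fun i => by
      have h' := congrFun hw i
      rw [Matrix.mulVec, dotProduct, Pi.zero_apply] at h'
      rw [hz, Finset.mul_sum, map_sum, ← h']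
      refine Finset.sum_congr rfl fun j _ => ?_
      rw [mul_smul_comm, map_smul, smul_eq_mul, mul_comm]
      simp only [S, Matrix.of_apply]
    have hall : ∀ y : R, l (y * z) = 0 := fun y => by
      rw [← b.sum_repr y]
      rw [Finset.sum_mul, map_sum]
      exact Finset.sum_eq_zero fun i _ => by rw [smul_mul_assoc, map_smul, hkill, smul_zero]
    have hzz := AdjoinRoot.mk_leftInverse hm z
    set h := AdjoinRoot.modByMonicHom hm z with hhdef
    have hh0 : h ≠ 0 := fun h' => hz0 (by rw [← hzz, h', map_zero])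
    have hdeg : h.natDegree < e + 1 := by
      have : h = h %ₘ f := by
        conv_lhs => rw [hhdef, ← hzz, AdjoinRoot.modByMonicHom_mk]
      rw [this, ← hd]
      exact natDegree_modByMonic_lt _ hm fun h1 => by
        rw [h1, natDegree_one] at hd
        omega
    have h1 := hall (AdjoinRoot.mk f (X ^ (e - h.natDegree)))
    rw [← hzz, ← map_mul] at h1
    have hlt : (X ^ (e - h.natDegree) * h).degree < f.degree := by
      refine degree_lt_degree ?_
      rw [natDegree_mul (pow_ne_zero _ X_ne_zero) hh0, natDegree_X_pow, hd]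
      omega
    change (AdjoinRoot.modByMonicHom hm (AdjoinRoot.mk f _)).coeff e = 0 at h1
    rw [AdjoinRoot.modByMonicHom_mk, (modByMonic_eq_self_iff hm).2 hlt, coeff_X_pow_mul',
      if_pos (by omega), show e - (e - h.natDegree) = h.natDegree by omega] at h1
    exact hh0 (leadingCoeff_eq_zero.1 h1)
  have hDg : D.charpoly = f := by
    have hre : D = Matrix.reindex (finCongr hdim) (finCongr hdim) (Algebra.leftMulMatrix pb.basis pb.gen) := by
      ext i j
      simp [D, b, pb, Algebra.leftMulMatrix_eq_repr_mul]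
    rw [hre, Matrix.charpoly_reindex, charpoly_leftMulMatrix, AdjoinRoot.powerBasis_gen,
      AdjoinRoot.minpoly_root hm.ne_zero, hm.leadingCoeff, inv_one, map_one, mul_one]
  exact ⟨D, S, hS, hSDt, hdet, hDg⟩

/-- `X^n f(X + 1/X)` -/
noncomputable def hom2 (n : ℕ) (f : F[X]) : F[X] :=
  ∑ k ∈ Finset.range (n + 1), C (f.coeff k) * (X ^ 2 + 1) ^ k * X ^ (n - k)

theorem hom2_sub (n : ℕ) (f g : F[X]) : hom2 n (f - g) = hom2 n f - hom2 n g := by
  simp only [hom2, coeff_sub, map_sub, sub_mul, Finset.sum_sub_distrib]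

theorem hom2_C_mul (n : ℕ) (c : F) (f : F[X]) : hom2 n (C c * f) = C c * hom2 n f := by
  simp only [hom2, coeff_C_mul, map_mul, Finset.mul_sum, mul_assoc]

theorem hom2_X_mul (n : ℕ) (f : F[X]) : hom2 (n + 1) (X * f) = (X ^ 2 + 1) * hom2 n f := by
  rw [hom2, Finset.sum_range_succ', hom2, Finset.mul_sum]
  simp only [coeff_X_mul, coeff_X_mul_zero, map_zero, zero_mul, add_zero]
  refine Finset.sum_congr rfl fun k _ => ?_
  rw [Nat.add_sub_add_right, pow_succ]
  ring

theorem hom2_succ {n : ℕ} {f : F[X]} (h : f.natDegree ≤ n) : hom2 (n + 1) f = X * hom2 n f := by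
  rw [hom2, Finset.sum_range_succ, coeff_eq_zero_of_natDegree_lt (Nat.lt_succ_of_le h), map_zero, zero_mul,
    zero_mul, add_zero, hom2, Finset.mul_sum]
  refine Finset.sum_congr rfl fun k hk => ?_
  rw [Finset.mem_range] at hk
  rw [show n + 1 - k = n - k + 1 by omega, pow_succ]
  ring

theorem hom2_linear {n : ℕ} {f : F[X]} (h : f.natDegree ≤ n) (c : F) :
    hom2 (n + 1) ((X - C c) * f) = (X ^ 2 + 1 - C c * X) * hom2 n f := by
  rw [sub_mul, hom2_sub, hom2_X_mul, hom2_C_mul, hom2_succ h]
  ring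

theorem hom2_eq_zero : ∀ {n : ℕ} {f : F[X]}, f.natDegree ≤ n → hom2 n f = 0 → f = 0
  | 0, f, h, h0 => by
    rw [eq_C_of_natDegree_le_zero h]
    simpa [hom2] using h0
  | n + 1, f, h, h0 => by
    have hc : f.coeff (n + 1) = 0 := by
      have e := congrArg (fun p : F[X] => p.eval 0) h0
      simp only [hom2, eval_finsetSum, eval_mul, eval_C, eval_pow, eval_add, eval_X, eval_one, eval_zero] at e
      rw [Finset.sum_range_succ, Finset.sum_eq_zero fun k hk => by
        rw [zero_pow (show n + 1 - k ≠ 0 by have := Finset.mem_range.1 hk; omega), mul_zero]] at e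
      simpa using e
    have hd : f.natDegree ≤ n := by
      refine natDegree_le_iff_coeff_eq_zero.2 fun i hi => ?_
      rcases eq_or_lt_of_le (show n + 1 ≤ i from hi) with rfl | hi'
      · exact hc
      · exact coeff_eq_zero_of_natDegree_lt (by omega)
    rw [hom2_succ hd] at h0
    exact hom2_eq_zero hd ((mul_eq_zero.1 h0).resolve_left X_ne_zero)

/-- `g` is the characteristic polynomial of an isometry of a form of size `2n` and class `δ`. -/
def Realized (δ : F) (n : ℕ) (g : F[X]) : Prop :=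
  ∃ (ι : Type) (_ : Fintype ι) (_ : DecidableEq ι) (G A : Matrix ι ι F), Fintype.card ι = 2 * n ∧
    Gᵀ = G ∧ G.det ≠ 0 ∧ IsSquare (δ * G.det) ∧ Aᵀ * G * A = G ∧ A.charpoly = g

/-- Adjoining a plane on which the isometry is `±1`. -/
theorem realized_step {n : ℕ} {δ δ₁ : F} {g : F[X]} (hδ : δ ≠ 0) (h : Realized δ₁ n g) {e : F}
    (he : e * e = 1) : Realized δ (n + 1) ((X ^ 2 + 1 - C (2 * e) * X) * g) := by
  obtain ⟨ι, i1, i2, G, A, hcard, hG, hGd, -, hA, hAc⟩ := h
  let W : Matrix (Fin 2) (Fin 2) F := Matrix.diagonal ![1, δ * G.det]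
  have hWd : W.det = δ * G.det := by simp [W, Fin.prod_univ_two]
  refine ⟨ι ⊕ Fin 2, inferInstance, inferInstance, fromBlocks G 0 0 W, fromBlocks A 0 0 (e • 1), ?_, ?_, ?_,
    ⟨δ * G.det, ?_⟩, ?_, ?_⟩
  · rw [Fintype.card_sum, hcard, Fintype.card_fin]; ring
  · rw [fromBlocks_transpose, hG, transpose_zero, transpose_zero, diagonal_transpose]
  · rw [det_fromBlocks_zero₂₁, hWd]; exact mul_ne_zero hGd (mul_ne_zero hδ hGd)
  · rw [det_fromBlocks_zero₂₁, hWd]; ring
  · simp [fromBlocks_transpose, fromBlocks_multiply, hA, smul_smul, he]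
  · rw [charpoly_fromBlocks_zero₂₁, hAc, mul_comm, show (e • (1 : Matrix (Fin 2) (Fin 2) F)).charpoly = (X - C e) ^ 2 by
      rw [smul_one_eq_diagonal, charpoly_diagonal, Fin.prod_univ_two, sq]]
    congr 1
    have : C e * C e = 1 := by rw [← map_mul, he, map_one]
    rw [map_mul, map_ofNat]
    linear_combination this

theorem realized_hom2 (h2 : (2 : F) ≠ 0) : ∀ (n : ℕ) (f : F[X]), f.Monic → f.natDegree = n → ∀ δ : F, δ ≠ 0 →
    IsSquare (δ * ((-1) ^ n * (f.eval 2 * f.eval (-2)))) → Realized δ n (hom2 n f) := by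
  intro n
  induction n with
  | zero =>
    intro f hm hd δ _ hsq
    obtain rfl := hm.natDegree_eq_zero.1 hd
    refine ⟨Fin 0, inferInstance, inferInstance, 1, 1, by simp, transpose_one, by simp, ?_, by simp, ?_⟩
    · simpa using hsq
    · simp [hom2, Matrix.charpoly]
  | succ n ih =>
    intro f hm hd δ hδ hsq
    by_cases h0 : f.eval 2 = 0 ∨ f.eval (-2) = 0
    · obtain ⟨e, he, hroot⟩ : ∃ e : F, e * e = 1 ∧ f.eval (2 * e) = 0 := by
        rcases h0 with h0 | h0
        · exact ⟨1, one_mul 1, by rwa [mul_one]⟩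
        · exact ⟨-1, by ring, by rwa [mul_neg_one]⟩
      obtain ⟨f₁, rfl⟩ := dvd_iff_isRoot.2 hroot
      have hm₁ : f₁.Monic := (monic_X_sub_C (2 * e)).of_mul_monic_left hm
      have hd₁ : f₁.natDegree = n := by
        rw [(monic_X_sub_C (2 * e)).natDegree_mul hm₁, natDegree_X_sub_C] at hd
        omega
      rw [hom2_linear hd₁.le]
      by_cases hz : (-1 : F) ^ n * (f₁.eval 2 * f₁.eval (-2)) = 0
      · exact realized_step hδ (ih f₁ hm₁ hd₁ 1 one_ne_zero (by rw [hz, mul_zero]; exact IsSquare.zero)) he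
      · exact realized_step hδ (ih f₁ hm₁ hd₁ _ hz ⟨_, rfl⟩) he
    · obtain ⟨D, S, hS, hSD, hdet, hD⟩ := exists_sym_companion hm hd
      have hDS : Dᵀ * S = S * D := by
        calc Dᵀ * S = (S * D)ᵀ := by rw [Matrix.transpose_mul, hS]
          _ = _ := hSD
      let T : Matrix (Fin (n + 1)) (Fin (n + 1)) F := S + S
      let G : Matrix (Fin (n + 1) ⊕ Fin (n + 1)) (Fin (n + 1) ⊕ Fin (n + 1)) F :=
        fromBlocks T (S * D) (S * D) T
      have hT : Tᵀ = T := by simp [T, hS]
      have hGdet : G.det = S.det ^ 2 * ((-1) ^ (n + 1) * (f.eval 2 * f.eval (-2))) := by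
        let E : Matrix (Fin (n + 1)) (Fin (n + 1)) F := Matrix.scalar (Fin (n + 1)) (2 : F)
        have hE : T = S * E := by
          have e2 : E = 1 + 1 := by
            ext a b
            by_cases hab : a = b
            · subst hab; simp [E, one_add_one_eq_two]
            · simp [E, hab]
          rw [e2, Matrix.mul_add, Matrix.mul_one]
        have e1 : G = fromBlocks S 0 0 S * fromBlocks E D D E := by
          simp [G, fromBlocks_multiply, hE]
        have e3 : fromBlocks 1 1 0 1 * fromBlocks E D D E * fromBlocks 1 (-1) 0 1 =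
            fromBlocks (E + D) 0 D (E - D) := by
          simp only [fromBlocks_multiply]
          congr 1 <;> simp [sub_eq_add_neg] <;> abel
        have e4 := congrArg Matrix.det e3
        rw [det_mul, det_mul, det_fromBlocks_zero₂₁, det_fromBlocks_zero₂₁, det_fromBlocks_zero₁₂] at e4
        simp only [det_one, one_mul, mul_one] at e4
        have e5 : (E - D).det = f.eval 2 := by rw [← hD, Matrix.eval_charpoly]
        have e6 : (E + D).det = (-1) ^ (n + 1) * f.eval (-2) := by
          have : E + D = -(Matrix.scalar (Fin (n + 1)) (-2 : F) - D) := by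
            rw [map_neg, neg_sub, sub_neg_eq_add]
            exact add_comm E D
          rw [this, det_neg, Fintype.card_fin, ← Matrix.eval_charpoly, hD]
        rw [e1, det_mul, det_fromBlocks_zero₂₁, e4, e5, e6]
        ring
      refine ⟨Fin (n + 1) ⊕ Fin (n + 1), inferInstance, inferInstance, G, fromBlocks 0 (-1) 1 D, ?_, ?_, ?_, ?_, ?_, ?_⟩
      · rw [Fintype.card_sum, Fintype.card_fin]; ring
      · rw [fromBlocks_transpose, hT, hSD]
      · rw [hGdet]
        simp only [not_or] at h0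
        exact mul_ne_zero (pow_ne_zero _ hdet)
          (mul_ne_zero (pow_ne_zero _ (neg_ne_zero.2 one_ne_zero)) (mul_ne_zero h0.1 h0.2))
      · rw [hGdet, mul_left_comm]
        exact (IsSquare.sq S.det).mul hsq
      · have hDt : Dᵀ * T = S * D + S * D := by simp [T, Matrix.mul_add, hDS]
        simp only [G, fromBlocks_transpose, fromBlocks_multiply, transpose_zero, transpose_neg, transpose_one]
        congr 1 <;> simp [T, Matrix.add_mul, Matrix.mul_add, ← Matrix.mul_assoc, hDS] <;> abel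
      · have e := charpoly_symm_block (S := -1) (Si := -1) (D := D) (by rw [neg_mul_neg, one_mul])
        rw [neg_neg] at e
        rw [e, homogenize_det, hD, hom2]

variable [Fintype F]

open scoped Classical in
theorem sq_le_two_mul_card (h2 : (2 : F) ≠ 0) {c : F} (hc : c ≠ 0) :
    Fintype.card F ^ 2 ≤ 2 * Fintype.card {p : F × F // IsSquare (c * (p.1 * p.2))} := by
  have hF : ringChar F ≠ 2 := fun h => h2 (by exact_mod_cast (ringChar.spec F 2).2 (by rw [h]))
  obtain ⟨ν, hν⟩ := FiniteField.exists_nonsquare hF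
  have hν0 : ν ≠ 0 := fun e => hν (e ▸ IsSquare.zero)
  have hsum := Fintype.card_subtype_compl fun p : F × F => IsSquare (c * (p.1 * p.2))
  have hle : Fintype.card {p : F × F // ¬ IsSquare (c * (p.1 * p.2))} ≤
      Fintype.card {p : F × F // IsSquare (c * (p.1 * p.2))} := by
    refine Fintype.card_le_of_injective (fun p => ⟨(p.1.1, ν * p.1.2), ?_⟩) fun p p' h => ?_
    · have hne : c * (p.1.1 * p.1.2) ≠ 0 := fun e => p.2 (by rw [e]; exact IsSquare.zero)
      have := CfsgLib.SympUnip.isSquare_mul_of_iff h2 hν0 hne (iff_of_false hν p.2)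
      convert this using 1
      ring
    · have h' := congrArg Subtype.val h
      simp only [Prod.mk.injEq] at h'
      exact Subtype.ext (Prod.ext h'.1 (mul_left_cancel₀ hν0 h'.2))
  rw [Fintype.card_prod] at hsum
  have := Fintype.card_subtype_le fun p : F × F => IsSquare (c * (p.1 * p.2))
  rw [Fintype.card_prod] at this
  rw [sq]
  omega

/-- At least half as many classes as monic polynomials of degree `n`. -/
theorem pow_le_two_mul (h2 : (2 : F) ≠ 0) {n : ℕ} (hn : 2 ≤ n) {J : Matrix (Fin (2 * n)) (Fin (2 * n)) F}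
    (hJ : Jᵀ = J) (hJd : J.det ≠ 0) {K : Type*} [Finite K] (χ : K → F[X])
    (hχ : ∀ A : Matrix (Fin (2 * n)) (Fin (2 * n)) F, Aᵀ * J * A = J → ∃ k, χ k = A.charpoly) :
    Fintype.card F ^ n ≤ 2 * Nat.card K := by
  classical
  obtain ⟨e, rfl⟩ : ∃ e, n = e + 2 := ⟨n - 2, by omega⟩
  have h4 : (4 : F) ≠ 0 := by rw [show (4 : F) = 2 * 2 by norm_num]; exact mul_ne_zero h2 h2
  set c : F := J.det * (-1) ^ (e + 2) with hc
  let low : (Fin e → F) → F[X] := fun v => ∑ j : Fin e, C (v j) * X ^ (j : ℕ)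
  let f : (Fin e → F) × {p : F × F // IsSquare (c * (p.1 * p.2))} → F[X] := fun x =>
    (X ^ 2 - C 4) * (X ^ e + low x.1) +
      (C ((x.2.1.1 - x.2.1.2) / 4) * X + C ((x.2.1.1 + x.2.1.2) / 2))
  have hlow : ∀ v, (X ^ e + low v).Monic ∧ (X ^ e + low v).natDegree = e := by
    intro v
    have hlt : (low v).degree < ((e : ℕ) : WithBot ℕ) := degree_sum_fin_lt (R := F) v
    refine ⟨monic_X_pow_add hlt, natDegree_eq_of_degree_eq_some ?_⟩
    rw [degree_add_eq_left_of_degree_lt (by rwa [degree_X_pow]), degree_X_pow]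
  have hsq4 : ((X : F[X]) ^ 2 - C 4).Monic ∧ ((X : F[X]) ^ 2 - C 4).natDegree = 2 :=
    ⟨monic_X_pow_sub_C _ two_ne_zero, natDegree_X_pow_sub_C⟩
  have hf : ∀ x, (f x).Monic ∧ (f x).natDegree = e + 2 := by
    intro x
    have hm := hsq4.1.mul (hlow x.1).1
    have hd : ((X ^ 2 - C 4) * (X ^ e + low x.1)).natDegree = e + 2 := by
      rw [hsq4.1.natDegree_mul (hlow x.1).1, hsq4.2, (hlow x.1).2, add_comm]
    have hl : (C ((x.2.1.1 - x.2.1.2) / 4) * X + C ((x.2.1.1 + x.2.1.2) / 2)).natDegree <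
        ((X ^ 2 - C 4) * (X ^ e + low x.1)).natDegree := by
      rw [hd]
      exact lt_of_le_of_lt natDegree_linear_le (by omega)
    exact ⟨hm.add_of_left (degree_lt_degree hl), by
      rw [natDegree_add_eq_left_of_natDegree_lt hl, hd]⟩
  have hev : ∀ x, (f x).eval 2 = x.2.1.1 ∧ (f x).eval (-2) = x.2.1.2 := by
    intro x
    constructor <;> simp [f] <;> field_simp <;> ring
  have hreal : ∀ x, ∃ A : Matrix (Fin (2 * (e + 2))) (Fin (2 * (e + 2))) F,
      Aᵀ * J * A = J ∧ A.charpoly = hom2 (e + 2) (f x) := by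
    intro x
    obtain ⟨ι, i1, i2, G, A, hcard, hG, hGd, hsq, hA, hAc⟩ :=
      realized_hom2 h2 (e + 2) (f x) (hf x).1 (hf x).2 J.det hJd (by
        rw [(hev x).1, (hev x).2, ← mul_assoc, ← hc]
        exact x.2.2)
    let ε : Fin (2 * (e + 2)) ≃ ι := (finCongr hcard.symm).trans (Fintype.equivFin ι).symm
    obtain ⟨C', hC, hCJ⟩ := CfsgLib.SympUnip.sym_congr h2 (A := G.submatrix ε ε) (A' := J)
      (by rw [transpose_submatrix, hG]) hJ (by rw [det_submatrix_equiv_self]; exact hGd) hJd
      (by rw [det_submatrix_equiv_self, mul_comm]; exact hsq)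
    obtain ⟨u, rfl⟩ := hC
    refine ⟨(↑u⁻¹ : Matrix (Fin (2 * (e + 2))) (Fin (2 * (e + 2))) F) * A.submatrix ε ε * u.1, ?_, ?_⟩
    · have hA' : (A.submatrix ε ε)ᵀ * G.submatrix ε ε * A.submatrix ε ε = G.submatrix ε ε := by
        rw [transpose_submatrix, submatrix_mul_equiv, submatrix_mul_equiv, hA]
      rw [← hCJ]
      set U : Matrix (Fin (2 * (e + 2))) (Fin (2 * (e + 2))) F := u.1
      set V : Matrix (Fin (2 * (e + 2))) (Fin (2 * (e + 2))) F := (↑u⁻¹ : Matrix (Fin (2 * (e + 2))) (Fin (2 * (e + 2))) F)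
      have hUV : U * V = 1 := u.mul_inv
      calc (V * A.submatrix ε ε * U)ᵀ * (Uᵀ * G.submatrix ε ε * U) * (V * A.submatrix ε ε * U)
          = Uᵀ * ((A.submatrix ε ε)ᵀ * (Vᵀ * Uᵀ) * G.submatrix ε ε * (U * V) * A.submatrix ε ε) * U := by
            simp only [transpose_mul, Matrix.mul_assoc]
        _ = _ := by rw [hUV, ← transpose_mul, hUV, transpose_one, Matrix.mul_one, Matrix.mul_one, hA']
    · rw [Matrix.coe_units_inv, Matrix.charpoly_units_conj', show A.submatrix ε ε = Matrix.reindex ε.symm ε.symm A from rfl,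
        Matrix.charpoly_reindex, hAc]
  choose A hA hAc using hreal
  choose k hk using fun x => hχ (A x) (hA x)
  have hinj : Function.Injective k := by
    intro x y hxy
    have h := (hk x).symm.trans ((congrArg χ hxy).trans (hk y))
    rw [hAc, hAc, ← sub_eq_zero, ← hom2_sub] at h
    have hfe : f x = f y := sub_eq_zero.1 (hom2_eq_zero
      ((natDegree_sub_le _ _).trans (by rw [(hf x).2, (hf y).2, max_self])) h)
    have h3 : x.2 = y.2 := Subtype.ext (Prod.ext ((hev x).1.symm.trans ((congrArg (eval 2) hfe).trans (hev y).1))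
      ((hev x).2.symm.trans ((congrArg (eval (-2)) hfe).trans (hev y).2)))
    simp only [f, h3, add_left_inj] at hfe
    have h5 := add_left_cancel (mul_left_cancel₀ hsq4.1.ne_zero hfe)
    refine Prod.ext (funext fun j => ?_) h3
    have h6 := congrArg (fun p : F[X] => p.coeff j) h5
    simpa [low, Fin.val_inj] using h6
  have h := Nat.card_le_card_of_injective k hinj
  rw [Nat.card_prod, Nat.card_fun, Nat.card_fin, Nat.card_eq_fintype_card, Nat.card_eq_fintype_card] at h
  have h3 := sq_le_two_mul_card (F := F) h2 (show c ≠ 0 from mul_ne_zero hJd (pow_ne_zero _ (neg_ne_zero.2 one_ne_zero)))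
  calc Fintype.card F ^ (e + 2) ≤ Fintype.card F ^ e * (2 * Fintype.card {p : F × F // IsSquare (c * (p.1 * p.2))}) := by
        rw [pow_add]; exact Nat.mul_le_mul_left _ h3
    _ ≤ 2 * Nat.card K := by rw [mul_left_comm]; exact Nat.mul_le_mul_left 2 h

end CfsgLib.OrthClassNum
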