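import Mathlib
import Cfsg.Prelude.Def_Classical
import Cfsg.Agent.Lib.QuadFin.Gram
import Cfsg.Agent.Lib.OrthClassNum.ClassBound
import Cfsg.Agent.Lib.OrthClassNum.Lower

/-!
Class numbers of orthogonal groups in even dimension and odd characteristic.
-/

set_option autoImplicit false

namespace CfsgLib.OrthClassNum

open Matrix

universe u

variable {F : Type u} [Field F] {ι : Type} [Fintype ι] [DecidableEq ι]

theorem mem_isometryGroup_gram (h2 : (2 : F) ≠ 0) (Q : QuadraticForm F (ι → F)) (g : GL ι F) :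
    g ∈ Cfsg.isometryGroup F ⇑Q ↔
      (g : Matrix ι ι F)ᵀ * QuadFin.gram ⇑Q * (g : Matrix ι ι F) = QuadFin.gram ⇑Q := by
  let ge : (ι → F) ≃ₗ[F] (ι → F) :=
    { (g : Matrix ι ι F).mulVecLin with
      invFun := fun v => ((g⁻¹ : GL ι F) : Matrix ι ι F) *ᵥ v
      left_inv := fun v => by simp [Matrix.mulVec_mulVec]
      right_inv := fun v => by simp [Matrix.mulVec_mulVec] }
  have hge : LinearMap.toMatrix' ge.toLinearMap = (g : Matrix ι ι F) := LinearMap.toMatrix'_toLin' _
  have hcomp : QuadFin.gram (fun v => Q ((g : Matrix ι ι F) *ᵥ v)) =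
      (g : Matrix ι ι F)ᵀ * QuadFin.gram ⇑Q * (g : Matrix ι ι F) := by
    have h := QuadFin.gram_comp Q ge
    rw [hge] at h
    exact h
  rw [← hcomp]
  constructor
  · intro hg
    rw [show (fun v => Q ((g : Matrix ι ι F) *ᵥ v)) = ⇑Q from funext fun v => hg v v]
  · intro hg u _
    let Q' : QuadraticForm F (ι → F) := Q.comp (g : Matrix ι ι F).mulVecLin
    have hb : Q'.polarBilin = Q.polarBilin := by
      refine (LinearMap.BilinForm.toMatrix (Pi.basisFun F ι)).injective ?_
      rw [← QuadFin.gram_eq_toMatrix, ← QuadFin.gram_eq_toMatrix]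
      exact hg
    have h := LinearMap.congr_fun (LinearMap.congr_fun hb u) u
    simp only [QuadraticMap.polarBilin_apply_apply, QuadraticMap.polar_self, smul_eq_mul, two_nsmul,
      ← two_mul] at h
    exact mul_left_cancel₀ h2 h

variable [Fintype F]

/-- Both bounds. -/
theorem orth_class_bounds (hodd : Odd (Fintype.card F)) (Q : QuadraticForm F (ι → F))
    (hQ : Q.polarBilin.Nondegenerate) {n : ℕ} (hn : 2 ≤ n) (hcard : Fintype.card ι = 2 * n) :
    Fintype.card F ^ n ≤ 2 * Nat.card (ConjClasses ↥(Cfsg.isometryGroup F ⇑Q)) ∧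
      2 * Nat.card (ConjClasses ↥(Cfsg.isometryGroup F ⇑Q)) ≤ 19 * Fintype.card F ^ n := by
  classical
  have hq : 3 ≤ Fintype.card F := by
    have := Fintype.one_lt_card (α := F)
    obtain ⟨k, hk⟩ := hodd
    omega
  have h2 : (2 : F) ≠ 0 := by
    refine Ring.two_ne_zero fun h => ?_
    have := FiniteField.even_card_of_char_two h
    rw [Nat.odd_iff] at hodd
    omega
  let ρ := Matrix.reindexAlgEquiv F F (Fintype.equivFinOfCardEq hcard : ι ≃ Fin (2 * n))
  have htr : ∀ X, (ρ X)ᵀ = ρ Xᵀ := fun X => rfl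
  set J := ρ (QuadFin.gram ⇑Q) with hJdef
  have hJ : Jᵀ = J := by
    rw [hJdef, htr]
    congr 1
    ext i j
    simp [QuadFin.gram, QuadraticMap.polar_comm]
  have hJd : J.det ≠ 0 := by
    have : J.det = (QuadFin.gram ⇑Q).det := Matrix.det_reindexAlgEquiv F F _ _
    rw [this]
    exact QuadFin.gram_det_ne_zero Q hQ
  have hJu : IsUnit J := (Matrix.isUnit_iff_isUnit_det J).2 (isUnit_iff_ne_zero.2 hJd)
  let H := ↥(Cfsg.isometryGroup F ⇑Q)
  have hiso : ∀ h : H, (ρ (h : GL ι F).1)ᵀ * J * ρ (h : GL ι F).1 = J := fun h => by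
    rw [htr, hJdef, ← map_mul, ← map_mul, (mem_isometryGroup_gram h2 Q h.1).1 h.2]
  have hlift : ∀ W : Matrix ι ι F, (ρ W)ᵀ * J * ρ W = J → ∃ h : H, (h : GL ι F).1 = W := by
    intro W hW
    rw [htr, hJdef, ← map_mul, ← map_mul] at hW
    have hW' := ρ.injective hW
    have hWu : IsUnit W := by
      rw [Matrix.isUnit_iff_isUnit_det]
      refine isUnit_iff_ne_zero.2 fun h0 => QuadFin.gram_det_ne_zero Q hQ ?_
      rw [← hW', det_mul, h0, mul_zero]
    obtain ⟨w, rfl⟩ := hWu
    exact ⟨⟨w, (mem_isometryGroup_gram h2 Q w).2 hW'⟩, rfl⟩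
  constructor
  · refine pow_le_two_mul h2 hn hJ hJd (fun c : ConjClasses H => (ρ (c.out : GL ι F).1).charpoly) fun A hA => ?_
    obtain ⟨W, rfl⟩ := ρ.surjective A
    obtain ⟨h, rfl⟩ := hlift W hA
    refine ⟨ConjClasses.mk h, ?_⟩
    obtain ⟨z, hz⟩ := isConj_iff.1 (ConjClasses.mk_eq_mk_iff_isConj.1 (Quotient.out_eq (ConjClasses.mk h)))
    rw [Matrix.reindexAlgEquiv_apply, Matrix.charpoly_reindex]
    show _ = (ρ (h : GL ι F).1).charpoly
    rw [Matrix.reindexAlgEquiv_apply, Matrix.charpoly_reindex]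
    conv_rhs => rw [← hz]
    rw [Subgroup.coe_mul, Subgroup.coe_mul, Subgroup.coe_inv, Units.val_mul, Units.val_mul, Matrix.coe_units_inv,
      Matrix.charpoly_units_conj]
  · have hup := card_orth_classes_le h2 hJ hJu (fun c : ConjClasses H => ρ (c.out : GL ι F).1)
      (fun c => hiso c.out) fun c c' Z hZ hZA => ?_
    · have ho := orth_count_le hq (show 1 ≤ n by omega)
      have hz := noroot_count_le hq (show 1 ≤ n by omega)
      show 2 * Nat.card (ConjClasses H) ≤ _
      omega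
    · obtain ⟨W, rfl⟩ := ρ.surjective Z
      obtain ⟨h, rfl⟩ := hlift W hZ
      rw [← c.out_eq, ← c'.out_eq]
      refine Quotient.sound (isConj_iff.2 ⟨h, ?_⟩)
      rw [mul_inv_eq_iff_eq_mul]
      refine Subtype.ext (Units.ext (ρ.injective ?_))
      rw [Subgroup.coe_mul, Subgroup.coe_mul, Units.val_mul, Units.val_mul, map_mul, map_mul]
      exact hZA

end CfsgLib.OrthClassNum
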