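import Mathlib

/-!
Class numbers of a group and of the kernel of a sign character, with the classes that split.
-/

set_option autoImplicit false

namespace CfsgLib.OrthClassNum

open Finset

variable {H : Type*} [Group H]

/-- The classes in the kernel of `χ` whose centraliser lies in the kernel. -/
def SplitClass (χ : H →* ℤˣ) : Type _ :=
  {c : ConjClasses H // χ c.out = 1 ∧ ∀ y, Commute c.out y → χ y = 1}

variable [Finite H]

/-- Burnside counting for a subgroup of index two. -/
theorem card_classes_index_two (χ : H →* ℤˣ) (hχ : ∃ t, χ t = -1) :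
    Nat.card (ConjClasses H) ≤ 2 * Nat.card (ConjClasses χ.ker) ∧
      2 * Nat.card (ConjClasses χ.ker) ≤ Nat.card (ConjClasses H) + 3 * Nat.card (SplitClass χ) := by
  classical
  have : Fintype H := Fintype.ofFinite H
  obtain ⟨t, ht⟩ := hχ
  let cp : ℤˣ → ℤˣ → ℕ := fun a b => Nat.card {p : H × H // Commute p.1 p.2 ∧ χ p.1 = a ∧ χ p.2 = b}
  have hdec : ∀ a : ℤˣ, a = 1 ∨ a = -1 := Int.units_eq_one_or
  have hne : (1 : ℤˣ) ≠ -1 := by decide
  -- the whole group
  have htot : Nat.card (ConjClasses H) * Nat.card H = cp 1 1 + cp 1 (-1) + cp (-1) 1 + cp (-1) (-1) := by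
    rw [← card_comm_eq_card_conjClasses_mul_card]
    simp only [cp, Nat.card_eq_fintype_card, Fintype.card_subtype]
    have h1 := Finset.card_eq_sum_card_fiberwise (s := univ.filter fun p : H × H => Commute p.1 p.2)
      (t := (univ : Finset (ℤˣ × ℤˣ))) (f := fun p => (χ p.1, χ p.2)) (fun _ _ => Finset.mem_univ _)
    rw [h1, show (univ : Finset (ℤˣ × ℤˣ)) = {(1, 1), (1, -1), (-1, 1), (-1, -1)} by decide]
    rw [Finset.sum_insert (by decide), Finset.sum_insert (by decide), Finset.sum_insert (by decide),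
      Finset.sum_singleton]
    simp only [Finset.filter_filter, Prod.mk.injEq]
    ring
  -- the kernel
  have hker : Nat.card (ConjClasses χ.ker) * Nat.card χ.ker = cp 1 1 := by
    rw [← card_comm_eq_card_conjClasses_mul_card]
    refine Nat.card_congr
      { toFun := fun p => ⟨((p.1.1 : H), (p.1.2 : H)), congrArg Subtype.val p.2, p.1.1.2, p.1.2.2⟩
        invFun := fun p => ⟨(⟨p.1.1, p.2.2.1⟩, ⟨p.1.2, p.2.2.2⟩), Subtype.ext p.2.1⟩
        left_inv := fun p => rfl
        right_inv := fun p => rfl }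
  have hhalf : Nat.card H = 2 * Nat.card χ.ker := by
    have h := χ.ker.card_mul_index
    rw [Subgroup.index_ker, MonoidHom.range_eq_top.2, Subgroup.card_top, Nat.card_eq_fintype_card (α := ℤˣ),
      Fintype.card_units_int] at h
    · omega
    · intro a
      rcases hdec a with rfl | rfl
      · exact ⟨1, map_one _⟩
      · exact ⟨t, ht⟩
  have hswap : cp (-1) 1 = cp 1 (-1) := Nat.card_congr
    { toFun := fun p => ⟨(p.1.2, p.1.1), p.2.1.symm, p.2.2.2, p.2.2.1⟩
      invFun := fun p => ⟨(p.1.2, p.1.1), p.2.1.symm, p.2.2.2, p.2.2.1⟩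
      left_inv := fun p => rfl
      right_inv := fun p => rfl }
  have hout : cp (-1) (-1) = cp (-1) 1 := Nat.card_congr
    { toFun := fun p => ⟨(p.1.1, p.1.1 * p.1.2), (Commute.refl _).mul_right p.2.1, p.2.2.1,
        by rw [map_mul, p.2.2.1, p.2.2.2]; decide⟩
      invFun := fun p => ⟨(p.1.1, p.1.1⁻¹ * p.1.2), (Commute.refl _).inv_right.mul_right p.2.1, p.2.2.1,
        by rw [map_mul, map_inv, p.2.2.1, p.2.2.2]; decide⟩
      left_inv := fun p => Subtype.ext (Prod.ext rfl (inv_mul_cancel_left _ _))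
      right_inv := fun p => Subtype.ext (Prod.ext rfl (mul_inv_cancel_left _ _)) }
  -- centralisers of the kernel elements
  let f : H → ℤˣ → ℕ := fun x b => (univ.filter fun y => Commute x y ∧ χ y = b).card
  have hcp : ∀ b, cp 1 b = ∑ x ∈ univ.filter (fun x => χ x = 1), f x b := fun b => by
    simp only [cp, Nat.card_eq_fintype_card, Fintype.card_subtype]
    rw [Finset.card_eq_sum_card_fiberwise (t := univ.filter fun x => χ x = 1) (f := Prod.fst)
      fun p hp => Finset.mem_filter.2 ⟨Finset.mem_univ _, (Finset.mem_filter.1 hp).2.2.1⟩]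
    refine Finset.sum_congr rfl fun x hx => ?_
    refine Finset.card_nbij' (fun p => p.2) (fun y => (x, y)) ?_ ?_ ?_ ?_
    · intro p hp
      simp only [Finset.coe_filter, Finset.mem_filter, Finset.mem_univ, true_and, Set.mem_ofPred_eq] at hp ⊢
      obtain ⟨⟨h1, -, h3⟩, rfl⟩ := hp
      exact ⟨h1, h3⟩
    · intro y hy
      simp only [Finset.coe_filter, Finset.mem_filter, Finset.mem_univ, true_and, Set.mem_ofPred_eq] at hy hx ⊢
      exact ⟨⟨hy.1, hx, hy.2⟩, trivial⟩
    · intro p hp
      simp only [Finset.coe_filter, Finset.mem_filter, Finset.mem_univ, true_and, Set.mem_ofPred_eq] at hp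
      exact Prod.ext hp.2.symm rfl
    · intro y _; rfl
  have hle : ∀ x, f x (-1) ≤ f x 1 := fun x => by
    rcases (univ.filter fun y => Commute x y ∧ χ y = -1).eq_empty_or_nonempty with h | ⟨s, hs⟩
    · simp [f, h]
    rw [Finset.mem_filter] at hs
    refine Finset.card_le_card_of_injOn (fun y => s * y) (fun y hy => ?_) fun a _ b _ h => mul_left_cancel h
    rw [Finset.mem_coe, Finset.mem_filter] at hy ⊢
    exact ⟨Finset.mem_univ _, hs.2.1.mul_right hy.2.1, by rw [map_mul, hs.2.2, hy.2.2]; decide⟩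
  have hnon : ∀ x, (∃ y, Commute x y ∧ χ y ≠ 1) → f x 1 ≤ f x (-1) := by
    rintro x ⟨s, hs, hs'⟩
    have hs'' := (hdec (χ s)).resolve_left hs'
    refine Finset.card_le_card_of_injOn (fun y => s * y) (fun y hy => ?_) fun a _ b _ h => mul_left_cancel h
    rw [Finset.mem_coe, Finset.mem_filter] at hy ⊢
    exact ⟨Finset.mem_univ _, hs.mul_right hy.2.1, by rw [map_mul, hs'', hy.2.2]; decide⟩
  set Sx := univ.filter fun x => χ x = 1 ∧ ∀ y, Commute x y → χ y = 1 with hSx
  have hsplit : ∑ x ∈ Sx, f x 1 ≤ Nat.card (SplitClass χ) * Nat.card H := by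
    have hconj : ∀ x, ∃ h : H, h * (ConjClasses.mk x).out * h⁻¹ = x := fun x =>
      isConj_iff.1 (ConjClasses.mk_eq_mk_iff_isConj.1 (Quotient.out_eq (ConjClasses.mk x)))
    choose c hc using hconj
    have hS : ∀ x ∈ Sx, χ (ConjClasses.mk x).out = 1 ∧ ∀ y, Commute (ConjClasses.mk x).out y → χ y = 1 := by
      intro x hx
      rw [hSx, Finset.mem_filter] at hx
      have e : χ (ConjClasses.mk x).out = χ x := by
        conv_rhs => rw [← hc x]
        rw [map_mul, map_mul, map_inv, mul_comm, inv_mul_cancel_left]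
      refine ⟨e.trans hx.2.1, fun y hy => ?_⟩
      have h1 : Commute x (c x * y * (c x)⁻¹) := by
        conv => arg 1; rw [← hc x]
        exact hy.conj (c x)
      have h3 := hx.2.2 _ h1
      rwa [map_mul, map_mul, map_inv, mul_comm, inv_mul_cancel_left] at h3
    have : Finite (SplitClass χ) := Subtype.finite
    rw [← Nat.card_prod, ← Finset.card_sigma, ← Nat.card_eq_finsetCard]
    refine Nat.card_le_card_of_injective
      (fun p => ((⟨ConjClasses.mk p.1.1, hS _ (Finset.mem_sigma.1 p.2).1⟩ : SplitClass χ), p.1.2 * c p.1.1))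
      fun p q h => ?_
    have h1 := congrArg Prod.fst h
    have h2 := congrArg Prod.snd h
    simp only at h1 h2
    have h1' : ConjClasses.mk p.1.1 = ConjClasses.mk q.1.1 := congrArg Subtype.val h1
    have key : ∀ r : {z // z ∈ Sx.sigma fun x => univ.filter fun y => Commute x y ∧ χ y = 1},
        r.1.2 * c r.1.1 * (ConjClasses.mk r.1.1).out * (r.1.2 * c r.1.1)⁻¹ = r.1.1 := fun r => by
      have hr := (Finset.mem_filter.1 (Finset.mem_sigma.1 r.2).2).2.1
      rw [mul_inv_rev, mul_assoc r.1.2, mul_assoc r.1.2, ← mul_assoc (c r.1.1 * (ConjClasses.mk r.1.1).out), hc]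
      rw [← mul_assoc, ← hr.eq, mul_inv_cancel_right]
    have hx : p.1.1 = q.1.1 := by rw [← key p, ← key q, h2, h1']
    rw [hx] at h2
    exact Subtype.ext (Sigma.ext hx (heq_of_eq (mul_right_cancel h2)))
  have hA : cp 1 1 ≤ cp 1 (-1) + Nat.card (SplitClass χ) * Nat.card H := by
    rw [hcp, hcp]
    refine le_trans ?_ (Nat.add_le_add_left hsplit _)
    have hsub : Sx ⊆ univ.filter fun x => χ x = 1 := fun x hx =>
      Finset.mem_filter.2 ⟨Finset.mem_univ _, (Finset.mem_filter.1 hx).2.1⟩
    rw [← Finset.sum_sdiff hsub (f := fun x => f x 1)]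
    refine Nat.add_le_add_right ((Finset.sum_le_sum fun x hx => hnon x ?_).trans
      (Finset.sum_le_sum_of_subset Finset.sdiff_subset)) _
    rw [Finset.mem_sdiff, Finset.mem_filter, hSx, Finset.mem_filter] at hx
    by_contra hno
    push Not at hno
    exact hx.2 ⟨Finset.mem_univ _, hx.1.2, hno⟩
  have hB : cp 1 (-1) ≤ cp 1 1 := by
    rw [hcp, hcp]
    exact Finset.sum_le_sum fun x _ => hle x
  have hpos : 0 < Nat.card χ.ker := Nat.card_pos
  rw [hhalf] at htot hA
  rw [hswap] at hout
  constructor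
  · refine Nat.le_of_mul_le_mul_right ?_ (show 0 < 2 * Nat.card χ.ker by omega)
    nlinarith
  · refine Nat.le_of_mul_le_mul_right ?_ (show 0 < 2 * Nat.card χ.ker by omega)
    nlinarith

end CfsgLib.OrthClassNum
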