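import Mathlib
import Cfsg.Agent.Lib.OrthClassNum.Count
import Cfsg.Agent.Lib.OrthClassNum.Lower
import Cfsg.Agent.Lib.SpClassNum.ClassBound

/-!
Tuples of polynomials with arbitrary weights, and the weights that forbid a repeated part `1` at `±1`.
-/

set_option autoImplicit false

namespace CfsgLib.OrthClassNum

open Polynomial Finset CfsgLib.SpecGL CfsgLib.SpecUnitary CfsgLib.SpClassNum

/-- Weighted tuples with `c e d` the total weight at exponent `e` and degree `d`. -/
def wCount (c : ℕ → ℕ → ℕ) : ℕ → ℕ → ℕ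
  | 0, N => if N = 0 then 1 else 0
  | r + 1, N => ∑ d ∈ range (N / (r + 1) + 1), c (r + 1) d * wCount c r (N - (r + 1) * d)

theorem gCount_eq_wCount (q : ℕ) (σ : ℕ → ℕ) : ∀ r N, gCount q σ r N = wCount (fun e d => partCount q (σ e) d) r N
  | 0, N => by rw [gCount, wCount]
  | r + 1, N => by
    rw [gCount, wCount]
    exact Finset.sum_congr rfl fun d _ => by rw [gCount_eq_wCount q σ r]

theorem wCount_one (c : ℕ → ℕ → ℕ) (N : ℕ) : wCount c 1 N = c 1 N := by
  rw [wCount, Finset.sum_eq_single N]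
  · simp [wCount]
  · intro d hd hdN
    rw [Finset.mem_range] at hd
    simp only [wCount]
    rw [if_neg (by simp at hd ⊢; omega), mul_zero]
  · intro h; exact absurd (Finset.mem_range.2 (by simp)) h

/-- Comparing counts which differ at exponent `1` only. -/
theorem wCount_comb {c c₁ c₂ : ℕ → ℕ → ℕ} (a : ℕ) (h1 : ∀ d, a * c 1 d ≤ c₁ 1 d + c₂ 1 d)
    (he : ∀ e d, e ≠ 1 → c e d = c₁ e d ∧ c e d = c₂ e d) :
    ∀ r N, 1 ≤ r → a * wCount c r N ≤ wCount c₁ r N + wCount c₂ r N := by
  intro r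
  induction r with
  | zero => intro N h; omega
  | succ r ih =>
    intro N _
    rcases Nat.eq_zero_or_pos r with rfl | hr
    · rw [wCount_one, wCount_one, wCount_one]; exact h1 N
    rw [wCount, wCount, wCount, Finset.mul_sum, ← Finset.sum_add_distrib]
    refine Finset.sum_le_sum fun d _ => ?_
    obtain ⟨e1, e2⟩ := he (r + 1) d (by omega)
    rw [← e1, ← e2, mul_left_comm, ← mul_add]
    exact Nat.mul_le_mul_left _ (ih _ hr)

section tuples

variable {F : Type*} [Field F] [Fintype F]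

open scoped Classical in
/-- Total weight of the tuples. -/
theorem sum_wTuples_le (W : ℕ → F[X] → ℕ) (c : ℕ → ℕ → ℕ)
    (hW : ∀ e d, 1 ≤ e → ∑ g ∈ polys F d, W e g ≤ c e d) : ∀ r N : ℕ,
    ∑ g ∈ tuples F r N, ∏ i : Fin r, W ((i : ℕ) + 1) (g i) ≤ wCount c r N := by
  intro r
  induction r with
  | zero => intro N; rw [tuples, wCount]; split_ifs <;> simp
  | succ r ih =>
    intro N
    letI := Classical.decEq (Fin (r + 1) → F[X])
    rw [tuples, wCount]
    refine (sum_biUnion_le' _ _ _).trans (Finset.sum_le_sum fun d _ => ?_)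
    refine (Finset.sum_image_le_of_nonneg fun _ _ => Nat.zero_le _).trans ?_
    rw [Finset.sum_product]
    refine le_trans (le_of_eq ?_) (Nat.mul_le_mul (hW (r + 1) d (by omega)) (ih (N - (r + 1) * d)))
    rw [Finset.sum_mul]
    refine Finset.sum_congr rfl fun x _ => ?_
    rw [Finset.mul_sum]
    refine Finset.sum_congr rfl fun t _ => ?_
    simp [Fin.prod_univ_castSucc, mul_comm]

end tuples

/-- reciprocal polynomials of degree `D` without roots `±1` -/
def noRootCount (q D : ℕ) : ℕ :=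
  if D % 2 = 1 then 0 else if D = 0 then 1 else if D = 2 then q - 2 else (q - 1) ^ 2 * q ^ (D / 2 - 2)

/-- weighted number of divisor polynomials at exponent `1` without repeated roots `±1` -/
def simpleCount (q D : ℕ) : ℕ :=
  noRootCount q D + 4 * (if 1 ≤ D then noRootCount q (D - 1) else 0) +
    4 * (if 2 ≤ D then noRootCount q (D - 2) else 0)

/-- counts with simple roots `±1` at exponent `1` -/
def simpleBase (q e d : ℕ) : ℕ := if e = 1 then simpleCount q d else partCount q (shiftUp e) d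

/-- the correction term at exponent `1` -/
def corrBase (q e d : ℕ) : ℕ :=
  if e = 1 then (if d = 0 then 2 else if d = 1 then 8 else if d = 2 then 6 else 0) else partCount q (shiftUp e) d

theorem simpleCount_three_le (D : ℕ) :
    3 * simpleBase 3 1 D ≤ partCount 3 (shiftUp 1) D + corrBase 3 1 D := by
  simp only [simpleBase, corrBase, if_true, partCount, shiftUp, show (1 + 1) % 2 = 0 from rfl]
  rcases D with _ | _ | _ | _ | _ | D
  all_goals try decide
  rcases Nat.even_or_odd D with ⟨j, rfl⟩ | ⟨j, rfl⟩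
  · simp only [simpleCount, evenCount, recipCount, noRootCount]
    simp only [show 1 ≤ j + j + 1 + 1 + 1 + 1 + 1 by omega, show 2 ≤ j + j + 1 + 1 + 1 + 1 + 1 by omega, if_true,
      show (j + j + 1 + 1 + 1 + 1 + 1) % 2 = 1 by omega, show ¬ (j + j + 1 + 1 + 1 + 1 + 1) = 0 by omega,
      show ¬ (j + j + 1 + 1 + 1 + 1 + 1 - 1) % 2 = 1 by omega, show ¬ (j + j + 1 + 1 + 1 + 1 + 1 - 1) = 0 by omega,
      show ¬ (j + j + 1 + 1 + 1 + 1 + 1 - 1) = 2 by omega, show (j + j + 1 + 1 + 1 + 1 + 1 - 2) % 2 = 1 by omega,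
      show ¬ (j + j + 1 + 1 + 1 + 1 + 1 - 2) = 0 by omega, show ¬ (j + j + 1 + 1 + 1 + 1 + 1) = 1 by omega,
      show ¬ (j + j + 1 + 1 + 1 + 1 + 1) = 2 by omega, if_false,
      show (j + j + 1 + 1 + 1 + 1 + 1) / 2 = j + 2 by omega,
      show (j + j + 1 + 1 + 1 + 1 + 1 - 1) / 2 - 1 = j + 1 by omega,
      show (j + j + 1 + 1 + 1 + 1 + 1 - 1) / 2 - 2 = j by omega,
      show (j + j + 1 + 1 + 1 + 1 + 1 - 2) / 2 = j + 1 by omega, pow_succ]
    omega
  · simp only [simpleCount, evenCount, recipCount, noRootCount]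
    simp only [show 1 ≤ 2 * j + 1 + 1 + 1 + 1 + 1 + 1 by omega, show 2 ≤ 2 * j + 1 + 1 + 1 + 1 + 1 + 1 by omega,
      if_true, show ¬ (2 * j + 1 + 1 + 1 + 1 + 1 + 1) % 2 = 1 by omega,
      show ¬ (2 * j + 1 + 1 + 1 + 1 + 1 + 1) = 0 by omega, show ¬ (2 * j + 1 + 1 + 1 + 1 + 1 + 1) = 1 by omega,
      show ¬ (2 * j + 1 + 1 + 1 + 1 + 1 + 1) = 2 by omega,
      show (2 * j + 1 + 1 + 1 + 1 + 1 + 1 - 1) % 2 = 1 by omega,
      show ¬ (2 * j + 1 + 1 + 1 + 1 + 1 + 1 - 1) = 0 by omega,
      show ¬ (2 * j + 1 + 1 + 1 + 1 + 1 + 1 - 2) % 2 = 1 by omega,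
      show ¬ (2 * j + 1 + 1 + 1 + 1 + 1 + 1 - 2) = 0 by omega,
      show ¬ (2 * j + 1 + 1 + 1 + 1 + 1 + 1 - 2) = 2 by omega, if_false,
      show (2 * j + 1 + 1 + 1 + 1 + 1 + 1) / 2 - 1 = j + 2 by omega,
      show (2 * j + 1 + 1 + 1 + 1 + 1 + 1) / 2 - 2 = j + 1 by omega,
      show (2 * j + 1 + 1 + 1 + 1 + 1 + 1 - 1) / 2 = j + 2 by omega,
      show (2 * j + 1 + 1 + 1 + 1 + 1 + 1 - 2) / 2 - 1 = j + 1 by omega,
      show (2 * j + 1 + 1 + 1 + 1 + 1 + 1 - 2) / 2 - 2 = j by omega, pow_succ]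
    omega

section polys

variable {F : Type*} [Field F]

theorem eval_hom2_one (n : ℕ) {f : F[X]} (h : f.natDegree ≤ n) : (hom2 n f).eval 1 = f.eval 2 := by
  rw [hom2, eval_finsetSum, eval_eq_sum_range' (Nat.lt_succ_of_le h)]
  refine Finset.sum_congr rfl fun k _ => ?_
  simp only [eval_mul, eval_C, eval_pow, eval_add, eval_X, eval_one, one_pow, mul_one, one_add_one_eq_two]

theorem eval_hom2_neg_one (n : ℕ) {f : F[X]} (h : f.natDegree ≤ n) :
    (hom2 n f).eval (-1) = (-1) ^ n * f.eval (-2) := by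
  rw [hom2, eval_finsetSum, eval_eq_sum_range' (Nat.lt_succ_of_le h), Finset.mul_sum]
  refine Finset.sum_congr rfl fun k hk => ?_
  obtain ⟨j, rfl⟩ : ∃ j, n = k + j := ⟨n - k, by have := Finset.mem_range.1 hk; omega⟩
  simp only [eval_mul, eval_C, eval_pow, eval_add, eval_X, eval_one, Nat.add_sub_cancel_left]
  rw [show ((-1 : F) ^ 2 + 1) = 2 by ring, neg_pow (2 : F), pow_add]
  have : ((-1 : F) ^ k) * (-1) ^ k = 1 := by rw [← mul_pow]; simp
  linear_combination -(f.coeff k * 2 ^ k * (-1) ^ j) * this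

theorem monic_hom2 : ∀ (n : ℕ) {f : F[X]}, f.Monic → f.natDegree = n →
    (hom2 n f).Monic ∧ (hom2 n f).natDegree = 2 * n ∧ (hom2 n f).coeff 0 = 1 := by
  intro n f hm hd
  have hq : ((X : F[X]) ^ 2 + 1).Monic ∧ ((X : F[X]) ^ 2 + 1).natDegree = 2 := by
    rw [← C_1]; exact ⟨monic_X_pow_add_C 1 two_ne_zero, natDegree_X_pow_add_C⟩
  have hlt : (∑ k ∈ Finset.range n, C (f.coeff k) * (X ^ 2 + 1) ^ k * X ^ (n - k)).degree <
      ((((X : F[X]) ^ 2 + 1) ^ n)).degree := by
    rw [degree_eq_natDegree (hq.1.pow n).ne_zero, natDegree_pow, hq.2]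
    refine (degree_sum_le _ _).trans_lt ((Finset.sup_lt_iff (WithBot.bot_lt_coe _)).2 fun k hk => ?_)
    refine (degree_le_natDegree).trans_lt (Nat.cast_lt.2 ?_)
    refine lt_of_le_of_lt natDegree_mul_le ?_
    refine lt_of_le_of_lt (Nat.add_le_add natDegree_mul_le le_rfl) ?_
    rw [natDegree_C, natDegree_pow, hq.2, natDegree_X_pow]
    have := Finset.mem_range.1 hk
    omega
  have hlast : f.coeff n = 1 := hd ▸ hm.coeff_natDegree
  have heq : hom2 n f = (∑ k ∈ Finset.range n, C (f.coeff k) * (X ^ 2 + 1) ^ k * X ^ (n - k)) +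
      ((X : F[X]) ^ 2 + 1) ^ n := by
    rw [hom2, Finset.sum_range_succ, hlast, map_one, one_mul, Nat.sub_self, pow_zero, mul_one]
  refine ⟨heq ▸ (hq.1.pow n).add_of_right hlt, ?_, ?_⟩
  · rw [heq, natDegree_add_eq_right_of_degree_lt hlt, natDegree_pow, hq.2, mul_comm]
  · rw [coeff_zero_eq_eval_zero, heq, eval_add, eval_finsetSum, Finset.sum_eq_zero fun k hk => ?_, zero_add]
    · simp
    · have := Finset.mem_range.1 hk
      simp [zero_pow (show n - k ≠ 0 by omega)]

theorem conjRev_hom2 : ∀ (n : ℕ) {f : F[X]}, f.Monic → f.natDegree = n →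
    conjRev (RingHom.id F) (hom2 n f) = hom2 n f := by
  intro n f hm hd
  obtain ⟨-, hdeg, h0⟩ := monic_hom2 n hm hd
  rw [conjRev, Polynomial.map_id, RingHom.id_apply, h0, inv_one, map_one, one_mul, reverse, hdeg, hom2]
  have hterm : ∀ k ∈ Finset.range (n + 1), reflect (2 * n) (C (f.coeff k) * (X ^ 2 + 1) ^ k * X ^ (n - k)) =
      C (f.coeff k) * (X ^ 2 + 1) ^ k * X ^ (n - k) := by
    intro k hk
    have := Finset.mem_range.1 hk
    rw [mul_assoc, reflect_C_mul]
    congr 1
    have e : ((X : F[X]) ^ 2 + 1).natDegree ≤ 2 := by rw [← C_1, natDegree_X_pow_add_C]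
    have h2 : reflect 2 ((X : F[X]) ^ 2 + 1) = X ^ 2 + 1 := by
      rw [reflect_add, reflect_one, reflect_monomial, revAt_le le_rfl, Nat.sub_self, pow_zero]
      ring
    have hk2 : ∀ k, reflect (2 * k) (((X : F[X]) ^ 2 + 1) ^ k) = (X ^ 2 + 1) ^ k := by
      intro k
      induction k with
      | zero => simp
      | succ k ih =>
        rw [pow_succ, mul_add_one, reflect_mul _ _ (by rw [natDegree_pow, mul_comm 2 k]; exact Nat.mul_le_mul_left k e) e, ih, h2]
    rw [show 2 * n = 2 * k + 2 * (n - k) by omega,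
      reflect_mul _ _ (by rw [natDegree_pow]; have := e; nlinarith) (by rw [natDegree_X_pow]; omega), hk2,
      reflect_monomial, revAt_le (by omega), show 2 * (n - k) - (n - k) = n - k by omega]
  have hsum : ∀ s : Finset ℕ, reflect (2 * n) (∑ k ∈ s, C (f.coeff k) * (X ^ 2 + 1) ^ k * X ^ (n - k)) =
      ∑ k ∈ s, reflect (2 * n) (C (f.coeff k) * (X ^ 2 + 1) ^ k * X ^ (n - k)) := by
    intro s
    induction s using Finset.induction_on with
    | empty => simp
    | insert a s ha ih => rw [Finset.sum_insert ha, Finset.sum_insert ha, reflect_add, ih]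
  rw [hsum]
  exact Finset.sum_congr rfl hterm

variable [Fintype F]

/-- monic polynomials of degree `n` -/
noncomputable def monicPoly (n : ℕ) (v : Fin n → F) : F[X] := X ^ n + ∑ j : Fin n, C (v j) * X ^ (j : ℕ)

theorem monicPoly_spec (n : ℕ) (v : Fin n → F) : (monicPoly n v).Monic ∧ (monicPoly n v).natDegree = n := by
  have hlt : (∑ j : Fin n, C (v j) * X ^ (j : ℕ)).degree < ((n : ℕ) : WithBot ℕ) := degree_sum_fin_lt (R := F) v
  refine ⟨monic_X_pow_add hlt, natDegree_eq_of_degree_eq_some ?_⟩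
  rw [monicPoly, degree_add_eq_left_of_degree_lt (by rwa [degree_X_pow]), degree_X_pow]

theorem monicPoly_inj (n : ℕ) : Function.Injective (monicPoly (F := F) n) := fun v w h => funext fun j => by
  have := congrArg (fun p : F[X] => p.coeff j) h
  simpa [monicPoly, Fin.val_inj, coeff_X_pow] using this

/-- Every reciprocal polynomial of even degree is `X^n f(X + 1/X)`. -/
theorem exists_hom2 (h2 : (2 : F) ≠ 0) {n : ℕ} (hn : 1 ≤ n) {g : F[X]} (hg : g ∈ polys F (2 * n))
    (hfix : conjRev (RingHom.id F) g = g) (h0 : g.coeff 0 = 1) :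
    ∃ v : Fin n → F, hom2 n (monicPoly n v) = g := by
  classical
  obtain ⟨D, hD⟩ : ∃ D, 2 * n = D + 1 := ⟨2 * n - 1, by omega⟩
  let T := {g : F[X] // g ∈ polys F (D + 1) ∧ conjRev (RingHom.id F) g = g ∧ g.coeff 0 = 1}
  have : Finite T := finite_polySub (D + 1) _
  have hmem : ∀ v : Fin n → F, hom2 n (monicPoly n v) ∈ polys F (D + 1) := fun v => by
    obtain ⟨a, b, c⟩ := monic_hom2 n (monicPoly_spec n v).1 (monicPoly_spec n v).2
    exact mem_polys a (by omega) (by rw [c]; exact one_ne_zero)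
  let Φ : (Fin n → F) → T := fun v => ⟨hom2 n (monicPoly n v), hmem v,
    conjRev_hom2 n (monicPoly_spec n v).1 (monicPoly_spec n v).2,
    (monic_hom2 n (monicPoly_spec n v).1 (monicPoly_spec n v).2).2.2⟩
  have hinj : Function.Injective Φ := fun v w h => by
    have h' : hom2 n (monicPoly n v) = hom2 n (monicPoly n w) := congrArg Subtype.val h
    rw [← sub_eq_zero, ← hom2_sub] at h'
    exact monicPoly_inj n (sub_eq_zero.1 (hom2_eq_zero ((natDegree_sub_le _ _).trans (by
      rw [(monicPoly_spec n v).2, (monicPoly_spec n w).2, max_self])) h'))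
  have hle := card_fixed_coeff (F := F) h2 D 1
  rw [if_neg fun h => h2 (by linear_combination h.1)] at hle
  have hbij : Function.Bijective Φ := hinj.bijective_of_nat_card_le (by
    refine hle.trans (le_of_eq ?_)
    rw [Nat.card_fun, Nat.card_fin, Nat.card_eq_fintype_card, show (D + 1) / 2 = n by omega])
  obtain ⟨v, hv⟩ := hbij.2 ⟨g, hD ▸ hg, hfix, h0⟩
  exact ⟨v, congrArg Subtype.val hv⟩

open scoped Classical in
theorem card_noRoot_le (h2 : (2 : F) ≠ 0) (D : ℕ) :
    ((polys F D).filter fun g => conjRev (RingHom.id F) g = g ∧ g.eval 1 ≠ 0 ∧ g.eval (-1) ≠ 0).card ≤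
      noRootCount (Fintype.card F) D := by
  classical
  set S := (polys F D).filter fun g => conjRev (RingHom.id F) g = g ∧ g.eval 1 ≠ 0 ∧ g.eval (-1) ≠ 0 with hS
  have hev : ∀ g ∈ S, Even D ∧ g.coeff 0 = 1 := fun g hg => by
    rw [hS, Finset.mem_filter] at hg
    obtain ⟨h1, h0⟩ := fixed_no_root h2 hg.2.1 hg.2.2.1 hg.2.2.2
    exact ⟨(spec_polys hg.1).2.1 ▸ h1, h0⟩
  rcases Nat.even_or_odd D with ⟨n, rfl⟩ | hD
  swap
  · rw [Finset.eq_empty_of_forall_notMem (s := S) fun g hg => Nat.not_even_iff_odd.2 hD (hev g hg).1]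
    simp
  rcases Nat.eq_zero_or_pos n with rfl | hn
  · have h1 : ∀ g ∈ S, g = 1 := fun g hg => by
      have hg' := spec_polys (Finset.mem_filter.1 hg).1
      exact hg'.1.natDegree_eq_zero.1 hg'.2.1
    exact (Finset.card_le_card (t := {1}) fun g hg => Finset.mem_singleton.2 (h1 g hg)).trans
      (by simp [noRootCount])
  have hsub : S ⊆ ((univ : Finset (Fin n → F)).filter fun v =>
      (monicPoly n v).eval 2 ≠ 0 ∧ (monicPoly n v).eval (-2) ≠ 0).image fun v => hom2 n (monicPoly n v) := by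
    intro g hg
    have h0 := (hev g hg).2
    rw [hS, Finset.mem_filter, ← two_mul] at hg
    obtain ⟨v, rfl⟩ := exists_hom2 h2 hn hg.1 hg.2.1 h0
    refine Finset.mem_image.2 ⟨v, Finset.mem_filter.2 ⟨Finset.mem_univ _, ?_⟩, rfl⟩
    have hd := (monicPoly_spec n v).2
    rw [eval_hom2_one n hd.le, eval_hom2_neg_one n hd.le] at hg
    exact ⟨hg.2.2.1, right_ne_zero_of_mul hg.2.2.2⟩
  refine (Finset.card_le_card hsub).trans (Finset.card_image_le.trans ?_)
  rw [noRootCount, if_neg (by omega), if_neg (by omega), show (n + n) / 2 = n by omega]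
  rcases Nat.lt_or_ge n 2 with hn2 | hn2
  · obtain rfl : n = 1 := by omega
    rw [if_pos rfl]
    have hne : (2 : F) ≠ -2 := fun h => by
      have h' : (2 : F) * 2 = 0 := by linear_combination h
      exact h2 ((mul_eq_zero.1 h').elim id id)
    refine le_trans (Finset.card_le_card_of_injOn (t := univ \ {-2, 2}) (fun v => v 0) ?_ ?_) ?_
    · intro v hv
      simp only [Finset.coe_filter, Finset.mem_univ, true_and, Set.mem_ofPred_eq, monicPoly, pow_one,
        Fin.sum_univ_one, Fin.val_zero, pow_zero, mul_one, eval_add, eval_X, eval_C] at hv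
      simp only [Finset.coe_sdiff, Set.mem_sdiff, Finset.coe_univ, Set.mem_univ, true_and, Finset.coe_insert,
        Finset.coe_singleton, Set.mem_insert_iff, Set.mem_singleton_iff, not_or]
      exact ⟨fun h => hv.1 (by rw [h]; ring), fun h => hv.2 (by rw [h]; ring)⟩
    · intro v _ w _ h
      funext j
      rw [Subsingleton.elim j 0]
      exact h
    · rw [Finset.card_sdiff_of_subset (Finset.subset_univ _), Finset.card_univ, Finset.card_pair hne.symm]
  rw [if_neg (by omega)]
  obtain ⟨e, rfl⟩ : ∃ e, n = e + 2 := ⟨n - 2, by omega⟩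
  refine le_trans (Finset.card_le_card_of_injOn
    (t := (univ : Finset (Fin e → F)) ×ˢ ((univ.filter fun a : F => a ≠ 0) ×ˢ (univ.filter fun a : F => a ≠ 0)))
    (fun v => (fun j => v ⟨(j : ℕ) + 2, by omega⟩, (monicPoly (e + 2) v).eval 2, (monicPoly (e + 2) v).eval (-2)))
    ?_ ?_) ?_
  · intro v hv
    simp only [Finset.coe_filter, Finset.mem_univ, true_and, Set.mem_ofPred_eq] at hv
    simp [hv.1, hv.2]
  · intro v _ w _ h
    simp only [Prod.mk.injEq] at h
    have hhi : ∀ j : Fin e, v ⟨(j : ℕ) + 2, by omega⟩ = w ⟨(j : ℕ) + 2, by omega⟩ := congrFun h.1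
    have hd : ∀ x : F, (monicPoly (e + 2) v).eval x - (monicPoly (e + 2) w).eval x =
        (v 0 - w 0) + (v 1 - w 1) * x := by
      intro x
      simp only [monicPoly, eval_add, eval_finsetSum, eval_mul, eval_C, eval_pow, eval_X]
      rw [Fin.sum_univ_succ, Fin.sum_univ_succ, Fin.sum_univ_succ (f := fun j : Fin (e + 2) => w j * x ^ (j : ℕ)),
        Fin.sum_univ_succ (f := fun j : Fin (e + 1) => w j.succ * x ^ ((j.succ : Fin (e + 2)) : ℕ))]
      have : ∀ j : Fin e, v j.succ.succ = w j.succ.succ := fun j => hhi j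
      simp only [this, Fin.val_zero, Fin.succ_zero_eq_one, Fin.val_one, pow_zero, pow_one]
      ring
    have a1 := hd 2
    have a2 := hd (-2)
    rw [h.2.1, sub_self] at a1
    rw [h.2.2, sub_self] at a2
    have hb : v 1 = w 1 := by
      have : (2 : F) * (2 * (v 1 - w 1)) = 0 := by linear_combination -a1 + a2
      exact sub_eq_zero.1 ((mul_eq_zero.1 ((mul_eq_zero.1 this).resolve_left h2)).resolve_left h2)
    have ha : v 0 = w 0 := by rw [hb, sub_self, zero_mul, add_zero] at a1; exact sub_eq_zero.1 a1.symm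
    funext j
    rcases j with ⟨_ | _ | j, hj⟩
    · exact ha
    · exact hb
    · exact hhi ⟨j, by omega⟩
  · rw [Finset.card_product, Finset.card_product, Finset.card_univ, Fintype.card_fun, Fintype.card_fin,
      Finset.filter_ne', Finset.card_erase_of_mem (Finset.mem_univ _), Finset.card_univ, Nat.add_sub_cancel, sq]
    exact le_of_eq (mul_comm _ _)

end polys

end CfsgLib.OrthClassNum
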