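import Mathlib
import Cfsg.Agent.Lib.OrthClassNum.Weights

/-!
Numerical bounds for the counts belonging to `SO_(2n+1)(q)`.
-/

set_option autoImplicit false

namespace CfsgLib.OrthClassNum

open Finset CfsgLib.SpClassNum

theorem wCount_le (c : ℕ → ℕ → ℕ) {s b : ℝ} (hs : 0 < s) (hb : 0 ≤ b) (f : ℕ → ℝ) (hf : ∀ k, 0 ≤ f k)
    (hbase : ∀ N, (c 1 N : ℝ) ≤ b * s ^ N)
    (hstep : ∀ k M, ∑ d ∈ range M, (c (k + 2) d : ℝ) * ((1 / s) ^ (k + 2)) ^ d ≤ f k) :
    ∀ R N : ℕ, (wCount c (R + 1) N : ℝ) ≤ b * (∏ k ∈ range R, f k) * s ^ N := by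
  intro R
  induction R with
  | zero => intro N; simpa [wCount_one] using hbase N
  | succ R ih =>
    intro N
    set B := b * ∏ k ∈ range R, f k with hB
    have hB0 : 0 ≤ B := mul_nonneg hb (Finset.prod_nonneg fun k _ => hf k)
    calc (wCount c (R + 1 + 1) N : ℝ)
        ≤ ∑ d ∈ range (N / (R + 2) + 1), (c (R + 2) d : ℝ) * (B * s ^ (N - (R + 2) * d)) := by
          rw [wCount]
          push_cast
          exact Finset.sum_le_sum fun d _ => mul_le_mul_of_nonneg_left (ih _) (Nat.cast_nonneg _)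
      _ = B * s ^ N * ∑ d ∈ range (N / (R + 2) + 1), (c (R + 2) d : ℝ) * ((1 / s) ^ (R + 2)) ^ d := by
          rw [Finset.mul_sum]
          refine Finset.sum_congr rfl fun d hd => ?_
          rw [Finset.mem_range, Nat.lt_succ_iff, Nat.le_div_iff_mul_le (by omega), mul_comm d] at hd
          rw [one_div_pow, one_div_pow, ← pow_mul, pow_sub₀ s hs.ne' hd]
          ring
      _ ≤ B * s ^ N * f R := mul_le_mul_of_nonneg_left (hstep R _) (mul_nonneg hB0 (pow_nonneg hs.le N))
      _ = _ := by rw [Finset.prod_range_succ, hB]; ring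

theorem tail_geom {f : ℕ → ℝ} {T K a r : ℝ} (k₀ : ℕ) (hf : ∀ k, 1 ≤ f k) (hr : 0 ≤ r)
    (hstep : ∀ k, k₀ ≤ k → f k ≤ 1 + a * r ^ k) (h0 : ∏ k ∈ range k₀, f k ≤ T - K * r ^ k₀)
    (ha : 0 ≤ a) (hK : T * a ≤ K * (1 - r)) (hK0 : 0 ≤ K) : ∀ R, ∏ k ∈ range R, f k ≤ T := by
  have hmono : Monotone fun R => ∏ k ∈ range R, f k := monotone_nat_of_le_succ fun R => by
    rw [Finset.prod_range_succ]
    exact le_mul_of_one_le_right (Finset.prod_nonneg fun k _ => zero_le_one.trans (hf k)) (hf R)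
  have h : ∀ j, ∏ k ∈ range (k₀ + j), f k ≤ T - K * r ^ (k₀ + j) := by
    intro j
    induction j with
    | zero => simpa using h0
    | succ j ih =>
      rw [show k₀ + (j + 1) = k₀ + j + 1 by omega, Finset.prod_range_succ]
      refine (mul_le_mul ih (hstep _ (by omega)) (zero_le_one.trans (hf _)) ?_).trans ?_
      · exact le_trans (Finset.prod_nonneg fun k _ => zero_le_one.trans (hf k)) ih
      · rw [pow_succ]
        have hX : 0 ≤ r ^ (k₀ + j) := pow_nonneg hr _
        nlinarith [mul_le_mul_of_nonneg_left hK hX, mul_nonneg (mul_nonneg hK0 ha) (mul_nonneg hX hX)]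
  intro R
  exact (hmono (show R ≤ k₀ + R by omega)).trans ((h R).trans (sub_le_self _ (mul_nonneg hK0 (pow_nonneg hr _))))

/-! ### Small ranks by computation -/

/-- one step of the recursion on a row -/
def nextRow (c : ℕ → ℕ → ℕ) (e : ℕ) (prev : List ℕ) : List ℕ :=
  (List.range prev.length).map fun N => ((List.range (N / e + 1)).map fun d => c e d * prev.getD (N - e * d) 0).sum

/-- the rows `r, r-1, …, 0` of `wCount` -/
def rows (c : ℕ → ℕ → ℕ) (M : ℕ) : ℕ → List (List ℕ)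
  | 0 => [(List.range M).map fun N => if N = 0 then 1 else 0]
  | r + 1 =>
    let t := rows c M r
    nextRow c (r + 1) (t.headD []) :: t

theorem rows_getD (c : ℕ → ℕ → ℕ) (M : ℕ) : ∀ R r, r ≤ R →
    (rows c M R).getD (R - r) [] = (List.range M).map (wCount c r) := by
  intro R
  induction R with
  | zero =>
    intro r hr
    obtain rfl : r = 0 := by omega
    simp only [rows, Nat.sub_zero, List.getD_cons_zero]
    exact List.map_congr_left fun N _ => by rw [wCount]
  | succ R ih =>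
    intro r hr
    rcases Nat.eq_or_lt_of_le hr with rfl | hr
    · have h0 : (rows c M R).headD [] = (List.range M).map (wCount c R) := by
        have h := ih R le_rfl
        rw [Nat.sub_self] at h
        rw [← h]
        cases rows c M R <;> rfl
      simp only [rows, Nat.sub_self, List.getD_cons_zero, nextRow, h0, List.length_map, List.length_range]
      refine List.map_congr_left fun N hN => ?_
      rw [List.mem_range] at hN
      rw [wCount, Finset.sum_eq_multiset_sum, Finset.range_val, Multiset.range, Multiset.map_coe, Multiset.sum_coe]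
      refine congrArg List.sum (List.map_congr_left fun d _ => ?_)
      rw [List.getD_eq_getElem?_getD, List.getElem?_map, List.getElem?_range (by omega)]
      rfl
    · rw [show R + 1 - r = R - r + 1 by omega, rows, List.getD_cons_succ]
      exact ih r (by omega)

theorem rows_entry (c : ℕ → ℕ → ℕ) {M R r N : ℕ} (hr : r ≤ R) (hN : N < M) :
    ((rows c M R).getD (R - r) []).getD N 0 = wCount c r N := by
  rw [rows_getD c M R r hr, List.getD_eq_getElem?_getD, List.getElem?_map, List.getElem?_range hN]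
  rfl

theorem small_check : (List.range 23).all (fun i =>
    let s := rows (fun e d => partCount 3 (shiftUp e) d) 50 49
    let t := rows (simpleBase 3) 50 49
    decide (10 * ((s.getD (49 - (2 * (i + 2) + 1)) []).getD (2 * (i + 2) + 1) 0 +
      3 * (t.getD (49 - (2 * (i + 2) + 1)) []).getD (2 * (i + 2) + 1) 0) ≤ 584 * 3 ^ (i + 2))) = true := by
  decide +kernel

theorem sqrt_three_bounds : (0 : ℝ) < √3 ∧ √3 ≤ 1732051 / 1000000 := by
  refine ⟨Real.sqrt_pos.2 (by norm_num), ?_⟩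
  rw [Real.sqrt_le_iff]
  norm_num

theorem orth_count_three (n : ℕ) :
    (gCount 3 shiftUp (2 * n + 1) (2 * n + 1) : ℝ) ≤ 84 / 5 * (1732051 / 1000000) * 3 ^ n := by
  let f : ℕ → ℝ := fun k => (if k % 2 = 1 then (1 + 29 / 50 / 3 ^ ((k + 1) / 2)) ^ 4 else 1) * (1 / (1 - 1 / 3 ^ (k + 1)))
  have hstep : ∀ k M, ∑ d ∈ range M, (partCount 3 (shiftUp (k + 2)) d : ℝ) * ((1 / √((3 : ℕ) : ℝ)) ^ (k + 2)) ^ d ≤ f k := by
    intro k M
    obtain ⟨hy0, hy, hyj⟩ := step_facts (le_refl 3) k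
    have h3 := third_pow_le k
    have hlt : ((3 : ℕ) : ℝ) * ((1 / √((3 : ℕ) : ℝ)) ^ (k + 2)) ^ 2 < 1 := by linarith
    simp only [f]
    by_cases hk : k % 2 = 1
    · have : ∀ d, partCount 3 (shiftUp (k + 2)) d = evenCount 3 d := fun d => if_pos (by rw [shiftUp]; omega)
      simp only [this, if_pos hk]
      refine (sum_even_le hy0 hlt M).trans ?_
      rw [mul_one_div]
      exact div_le_div₀ (by positivity) (pow_le_pow_left₀ (by linarith) (by linarith [hyj ((k + 1) / 2) (by omega)]) 4)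
        (by linarith) (by linarith)
    · rw [if_neg hk, one_mul]
      refine (sum_geom_part_le hlt (by rw [shiftUp]; omega) M).trans ?_
      exact div_le_div_of_nonneg_left zero_le_one (by linarith) (by linarith)
  have hf : ∀ k, 0 ≤ f k := fun k => mul_nonneg (by split_ifs <;> positivity)
    (one_div_nonneg.2 (by linarith [third_pow_le k]))
  have hprod : ∀ R, ∏ k ∈ range R, f k = halfProd (R / 2) * minusProd R := by
    intro R
    induction R with
    | zero => simp [halfProd, minusProd]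
    | succ R ih =>
      rw [Finset.prod_range_succ, ih, minusProd, minusProd, Finset.prod_range_succ]
      simp only [f]
      by_cases hk : R % 2 = 1
      · rw [if_pos hk, show (R + 1) / 2 = R / 2 + 1 by omega, halfProd, halfProd, Finset.prod_range_succ]
        ring
      · rw [if_neg hk, show (R + 1) / 2 = R / 2 by omega]
        ring
  have h := gCount_le (le_refl 3) shiftUp (c := 28 / 9) (by norm_num) f hf (gCount_one_le_orth (le_refl 3)) hstep
    (2 * n) (2 * n + 1)
  rw [hprod, pow_succ, pow_mul, Real.sq_sqrt (Nat.cast_nonneg 3)] at h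
  have hb : halfProd (2 * n / 2) * minusProd (2 * n) ≤ 27 / 5 :=
    (mul_le_mul_of_nonneg_right (halfProd_mono (Nat.div_le_self _ _)) (minusProd_pos _).le).trans
      (halfProd_minusProd_le _)
  obtain ⟨hs0, hs⟩ := sqrt_three_bounds
  push_cast at h
  refine h.trans ?_
  calc 28 / 9 * (halfProd (2 * n / 2) * minusProd (2 * n)) * ((3 : ℝ) ^ n * √3)
      ≤ 28 / 9 * (27 / 5) * ((3 : ℝ) ^ n * (1732051 / 1000000)) :=
        mul_le_mul (mul_le_mul_of_nonneg_left hb (by norm_num)) (mul_le_mul_of_nonneg_left hs (by positivity))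
          (by positivity) (by norm_num)
    _ = _ := by ring

theorem corr_count_three (n : ℕ) :
    (wCount (corrBase 3) (2 * n + 1) (2 * n + 1) : ℝ) ≤ 240 * (9 / 4) ^ n := by
  let f : ℕ → ℝ := fun k => (if k % 2 = 1 then (1 + (2 / 3) ^ (k + 2)) ^ 4 else 1) / (1 - 3 * ((2 / 3) ^ (k + 2)) ^ 2)
  have hy : ∀ k : ℕ, 0 ≤ (2 / 3 : ℝ) ^ (k + 2) ∧ ((2 / 3 : ℝ) ^ (k + 2)) ≤ 4 / 9 := fun k => by
    refine ⟨by positivity, ?_⟩
    calc (2 / 3 : ℝ) ^ (k + 2) ≤ (2 / 3) ^ 2 := pow_le_pow_of_le_one (by norm_num) (by norm_num) (by omega)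
      _ = 4 / 9 := by norm_num
  have hlt : ∀ k : ℕ, 3 * ((2 / 3 : ℝ) ^ (k + 2)) ^ 2 ≤ 16 / 27 := fun k => by
    have h := pow_le_pow_left₀ (hy k).1 (hy k).2 2
    linarith
  have hf1 : ∀ k, 1 ≤ f k := fun k => by
    have h1 : (0 : ℝ) < 1 - 3 * ((2 / 3) ^ (k + 2)) ^ 2 := by linarith [hlt k]
    have h3 : (0 : ℝ) ≤ 3 * ((2 / 3) ^ (k + 2)) ^ 2 := by positivity
    simp only [f]
    rw [le_div_iff₀ h1, one_mul]
    split_ifs
    · exact (sub_le_self _ h3).trans (one_le_pow₀ (le_add_of_nonneg_right (hy k).1))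
    · exact sub_le_self _ h3
  have hstep : ∀ k M, ∑ d ∈ range M, (corrBase 3 (k + 2) d : ℝ) * ((1 / (3 / 2 : ℝ)) ^ (k + 2)) ^ d ≤ f k := by
    intro k M
    rw [show (1 / (3 / 2 : ℝ)) = 2 / 3 by norm_num]
    have hlt' : ((3 : ℕ) : ℝ) * ((2 / 3 : ℝ) ^ (k + 2)) ^ 2 < 1 := by push_cast; linarith [hlt k]
    simp only [corrBase, if_neg (show ¬ k + 2 = 1 by omega), f]
    by_cases hk : k % 2 = 1
    · have : ∀ d, partCount 3 (shiftUp (k + 2)) d = evenCount 3 d := fun d => if_pos (by rw [shiftUp]; omega)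
      simp only [this, if_pos hk]
      exact_mod_cast sum_even_le (hy k).1 hlt' M
    · rw [if_neg hk]
      exact_mod_cast sum_geom_part_le hlt' (show ¬ shiftUp (k + 2) % 2 = 0 by rw [shiftUp]; omega) M
  have hprod : ∀ R, ∏ k ∈ range R, f k ≤ 30 := by
    refine tail_geom (K := 200) (a := 20 / 9) (r := 2 / 3) 16 hf1 (by norm_num) (fun k hk => ?_)
      (by norm_num [f, Finset.prod_range_succ]) (by norm_num) (by norm_num) (by norm_num)
    simp only [f]
    rw [show (20 : ℝ) / 9 * (2 / 3) ^ k = 5 * (2 / 3) ^ (k + 2) by rw [pow_add]; ring]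
    have hsmall : (2 / 3 : ℝ) ^ (k + 2) ≤ 1 / 100 :=
      (pow_le_pow_of_le_one (by norm_num) (by norm_num) (show 12 ≤ k + 2 by omega)).trans (by norm_num)
    have hnn := (hy k).1
    generalize (2 / 3 : ℝ) ^ (k + 2) = y at *
    rw [div_le_iff₀ (by nlinarith)]
    split_ifs <;> nlinarith [mul_nonneg hnn hnn, mul_le_mul_of_nonneg_left hsmall hnn,
      mul_le_mul_of_nonneg_left hsmall (mul_nonneg hnn hnn),
      mul_le_mul_of_nonneg_left hsmall (mul_nonneg (mul_nonneg hnn hnn) hnn)]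
  have hbase : ∀ N, (corrBase 3 1 N : ℝ) ≤ 16 / 3 * (3 / 2) ^ N := by
    intro N
    rcases N with _ | _ | _ | N
    all_goals simp only [corrBase, if_true]
    all_goals norm_num
    rw [if_neg (by omega)]
    positivity
  have h := wCount_le (corrBase 3) (s := 3 / 2) (b := 16 / 3) (by norm_num) (by norm_num) f
    (fun k => zero_le_one.trans (hf1 k)) hbase hstep (2 * n) (2 * n + 1)
  refine h.trans ?_
  rw [pow_succ, pow_mul, show ((3 : ℝ) / 2) ^ 2 = 9 / 4 by norm_num]
  have h0 : (0 : ℝ) ≤ (9 / 4) ^ n := by positivity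
  nlinarith [mul_le_mul_of_nonneg_right (hprod (2 * n)) h0]

/-- `q = 3` -/
theorem three_final {n : ℕ} (hn : 2 ≤ n) :
    10 * (gCount 3 shiftUp (2 * n + 1) (2 * n + 1) + 3 * wCount (simpleBase 3) (2 * n + 1) (2 * n + 1)) ≤
      584 * 3 ^ n := by
  rcases Nat.lt_or_ge n 25 with h | h
  · have hc := List.all_eq_true.1 small_check (n - 2) (List.mem_range.2 (by omega))
    simp only [show n - 2 + 2 = n by omega, decide_eq_true_eq] at hc
    rw [rows_entry _ (by omega) (by omega), rows_entry _ (by omega) (by omega), ← gCount_eq_wCount] at hc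
    exact hc
  have hcomb : 3 * wCount (simpleBase 3) (2 * n + 1) (2 * n + 1) ≤
      gCount 3 shiftUp (2 * n + 1) (2 * n + 1) + wCount (corrBase 3) (2 * n + 1) (2 * n + 1) := by
    rw [gCount_eq_wCount]
    exact wCount_comb 3 simpleCount_three_le (fun e d he => by simp [simpleBase, corrBase, he]) _ _ (by omega)
  have hS := orth_count_three n
  have hR := corr_count_three n
  have hgeo : (240 : ℝ) * (9 / 4) ^ n ≤ 19 / 100 * 3 ^ n := by
    rw [show (9 : ℝ) / 4 = 3 / 4 * 3 by norm_num, mul_pow, ← mul_assoc]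
    refine mul_le_mul_of_nonneg_right ?_ (by positivity)
    exact (mul_le_mul_of_nonneg_left (pow_le_pow_of_le_one (by norm_num) (by norm_num) h) (by norm_num)).trans
      (by norm_num)
  have : ((10 * (gCount 3 shiftUp (2 * n + 1) (2 * n + 1) + 3 * wCount (simpleBase 3) (2 * n + 1) (2 * n + 1)) : ℕ) : ℝ) ≤
      ((584 * 3 ^ n : ℕ) : ℝ) := by
    have h' : ((3 * wCount (simpleBase 3) (2 * n + 1) (2 * n + 1) : ℕ) : ℝ) ≤
        ((gCount 3 shiftUp (2 * n + 1) (2 * n + 1) + wCount (corrBase 3) (2 * n + 1) (2 * n + 1) : ℕ) : ℝ) := by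
      exact_mod_cast hcomb
    push_cast at h' ⊢
    have h0 : (0 : ℝ) ≤ 3 ^ n := by positivity
    nlinarith
  exact_mod_cast this

/-! ### `q ≥ 5` -/

theorem recipCount_mono {p q : ℕ} (hp : 1 ≤ p) (hpq : p ≤ q) (d : ℕ) :
    recipCount q d * p ^ (d / 2) ≤ recipCount p d * q ^ (d / 2) := by
  rw [recipCount, recipCount]
  split_ifs with h0 h1
  · simp [h0]
  · rw [mul_assoc, mul_assoc, mul_comm (q ^ _)]
  · obtain ⟨j, hj⟩ : ∃ j, d / 2 = j + 1 := ⟨d / 2 - 1, by omega⟩
    rw [hj, Nat.add_sub_cancel, pow_succ, pow_succ]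
    have h : (q + 1) * p ≤ (p + 1) * q := by nlinarith
    calc (q + 1) * q ^ j * (p ^ j * p) = (q + 1) * p * (q ^ j * p ^ j) := by ring
      _ ≤ (p + 1) * q * (q ^ j * p ^ j) := Nat.mul_le_mul_right _ h
      _ = _ := by ring

theorem partCount_mono {p q : ℕ} (hp : 1 ≤ p) (hpq : p ≤ q) (e d : ℕ) :
    partCount q e d * p ^ (d / 2) ≤ partCount p e d * q ^ (d / 2) := by
  rw [partCount, partCount]
  split_ifs with he hd
  · have hlow : ∀ k, recipCount q (d - k) * p ^ (d / 2) ≤ recipCount p (d - k) * q ^ (d / 2) := fun k => by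
      obtain ⟨i, hi⟩ : ∃ i, d / 2 = (d - k) / 2 + i :=
        ⟨d / 2 - (d - k) / 2, by have : (d - k) / 2 ≤ d / 2 := Nat.div_le_div_right (Nat.sub_le d k); omega⟩
      rw [hi, pow_add, pow_add, ← mul_assoc, ← mul_assoc]
      exact Nat.mul_le_mul (recipCount_mono hp hpq _) (Nat.pow_le_pow_left hpq i)
    have h0 := recipCount_mono hp hpq d
    have h1 := hlow 1
    have h2 := hlow 2
    simp only [evenCount]
    split_ifs <;> nlinarith
  · simp
  · rw [mul_comm]

theorem gCount_mono {p q : ℕ} (hp : 1 ≤ p) (hpq : p ≤ q) (σ : ℕ → ℕ) : ∀ r N : ℕ,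
    gCount q σ r N * p ^ (N / 2) ≤ gCount p σ r N * q ^ (N / 2) := by
  intro r
  induction r with
  | zero =>
    intro N
    rw [gCount, gCount]
    split_ifs with h
    · simp [h]
    · simp
  | succ r ih =>
    intro N
    rw [gCount, gCount, Finset.sum_mul, Finset.sum_mul]
    refine Finset.sum_le_sum fun d hd => ?_
    rw [Finset.mem_range, Nat.lt_succ_iff, Nat.le_div_iff_mul_le (by omega), mul_comm d] at hd
    have hde : d ≤ (r + 1) * d := Nat.le_mul_of_pos_left d (by omega)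
    obtain ⟨i, hi⟩ : ∃ i, N / 2 = d / 2 + (N - (r + 1) * d) / 2 + i :=
      ⟨N / 2 - (d / 2 + (N - (r + 1) * d) / 2), by omega⟩
    rw [hi, pow_add, pow_add, pow_add, pow_add]
    calc partCount q (σ (r + 1)) d * gCount q σ r (N - (r + 1) * d) *
          (p ^ (d / 2) * p ^ ((N - (r + 1) * d) / 2) * p ^ i)
        = (partCount q (σ (r + 1)) d * p ^ (d / 2)) *
          (gCount q σ r (N - (r + 1) * d) * p ^ ((N - (r + 1) * d) / 2)) * p ^ i := by ring
      _ ≤ (partCount p (σ (r + 1)) d * q ^ (d / 2)) *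
          (gCount p σ r (N - (r + 1) * d) * q ^ ((N - (r + 1) * d) / 2)) * q ^ i :=
          Nat.mul_le_mul (Nat.mul_le_mul (partCount_mono hp hpq _ _) (ih _)) (Nat.pow_le_pow_left hpq i)
      _ = _ := by ring

theorem five_count (n : ℕ) : gCount 5 shiftUp (2 * n + 1) (2 * n + 1) ≤ 14 * 5 ^ n := by
  let s : ℝ := √5
  have hs2 : s ^ 2 = 5 := Real.sq_sqrt (by norm_num)
  have hs0 : 0 < s := Real.sqrt_pos.2 (by norm_num)
  have hs : (2236 : ℝ) / 1000 ≤ s ∧ s ≤ 224 / 100 := ⟨by nlinarith, by nlinarith⟩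
  have hinv : 1 / s ≤ 9 / 20 := by rw [div_le_iff₀ hs0]; linarith
  let f : ℕ → ℝ := fun k => (if k % 2 = 1 then (1 + (9 / 20) ^ (k + 2)) ^ 4 else 1) / (1 - (1 / 5) ^ (k + 1))
  have hlt : ∀ k : ℕ, (1 / 5 : ℝ) ^ (k + 1) ≤ 1 / 5 := fun k =>
    (pow_le_pow_of_le_one (by norm_num) (by norm_num) (show 1 ≤ k + 1 by omega)).trans (le_of_eq (pow_one _))
  have hf1 : ∀ k, 1 ≤ f k := fun k => by
    simp only [f]
    have h0 : (0 : ℝ) ≤ (1 / 5) ^ (k + 1) := by positivity
    rw [le_div_iff₀ (by linarith [hlt k]), one_mul]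
    split_ifs
    · exact (sub_le_self _ h0).trans (one_le_pow₀ (le_add_of_nonneg_right (by positivity)))
    · exact sub_le_self _ h0
  have hq : ∀ k : ℕ, ((5 : ℕ) : ℝ) * ((1 / s) ^ (k + 2)) ^ 2 = (1 / 5) ^ (k + 1) := fun k => by
    rw [← pow_mul, show (k + 2) * 2 = 2 * (k + 1) + 2 by ring, pow_add, pow_mul,
      show (1 / s) ^ 2 = 1 / 5 by rw [one_div_pow, hs2]]
    push_cast
    ring
  have hstep : ∀ k M, ∑ d ∈ range M, (partCount 5 (shiftUp (k + 2)) d : ℝ) * ((1 / s) ^ (k + 2)) ^ d ≤ f k := by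
    intro k M
    have hlt' : ((5 : ℕ) : ℝ) * ((1 / s) ^ (k + 2)) ^ 2 < 1 := by rw [hq]; linarith [hlt k]
    have h0 : 0 ≤ (1 / s) ^ (k + 2) := by positivity
    simp only [f]
    by_cases hk : k % 2 = 1
    · have : ∀ d, partCount 5 (shiftUp (k + 2)) d = evenCount 5 d := fun d => if_pos (by rw [shiftUp]; omega)
      simp only [this, if_pos hk]
      refine (sum_even_le h0 hlt' M).trans ?_
      rw [hq]
      exact div_le_div_of_nonneg_right (pow_le_pow_left₀ (by linarith)
        (add_le_add le_rfl (pow_le_pow_left₀ (by positivity) hinv _)) 4) (by linarith [hlt k])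
    · rw [if_neg hk]
      refine (sum_geom_part_le hlt' (show ¬ shiftUp (k + 2) % 2 = 0 by rw [shiftUp]; omega) M).trans ?_
      rw [hq]
  have hprod : ∀ R, ∏ k ∈ range R, f k ≤ 11 / 5 := by
    refine tail_geom (K := 5) (a := 5 / 4) (r := 9 / 20) 8 hf1 (by norm_num) (fun k hk => ?_)
      (by norm_num [f, Finset.prod_range_succ]) (by norm_num) (by norm_num) (by norm_num)
    simp only [f]
    have h45 : (4 / 9 : ℝ) ^ (k + 1) ≤ (4 / 9) ^ 2 := pow_le_pow_of_le_one (by norm_num) (by norm_num) (by omega)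
    have hx : (1 / 5 : ℝ) ^ (k + 1) ≤ (9 / 20) ^ (k + 2) := by
      rw [show (1 : ℝ) / 5 = 4 / 9 * (9 / 20) by norm_num, mul_pow, pow_succ (9 / 20 : ℝ) (k + 1), mul_comm]
      exact mul_le_mul_of_nonneg_left (h45.trans (by norm_num)) (by positivity)
    rw [show (5 : ℝ) / 4 * (9 / 20) ^ k = 500 / 81 * (9 / 20) ^ (k + 2) by rw [pow_add]; ring]
    have hsmall : (9 / 20 : ℝ) ^ (k + 2) ≤ 1 / 1000 :=
      (pow_le_pow_of_le_one (by norm_num) (by norm_num) (show 10 ≤ k + 2 by omega)).trans (by norm_num)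
    have hx0 : (0 : ℝ) ≤ (1 / 5) ^ (k + 1) := by positivity
    have hy0 : (0 : ℝ) ≤ (9 / 20) ^ (k + 2) := by positivity
    generalize (1 / 5 : ℝ) ^ (k + 1) = x at *
    generalize (9 / 20 : ℝ) ^ (k + 2) = y at *
    rw [div_le_iff₀ (by linarith)]
    split_ifs <;> nlinarith [mul_nonneg hy0 hy0, mul_le_mul_of_nonneg_left hsmall hy0,
      mul_le_mul_of_nonneg_left hsmall (mul_nonneg hy0 hy0),
      mul_le_mul_of_nonneg_left hsmall (mul_nonneg (mul_nonneg hy0 hy0) hy0)]
  have hbase : ∀ N, (partCount 5 (shiftUp 1) N : ℝ) ≤ 56 / 25 * s ^ N := by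
    intro N
    rw [shiftUp, partCount, if_pos (by norm_num)]
    rcases Nat.even_or_odd N with ⟨j, rfl⟩ | ⟨j, rfl⟩
    · rw [show s ^ (j + j) = (5 : ℝ) ^ j by rw [← two_mul, pow_mul, hs2]]
      rcases j with _ | _ | j
      · norm_num [evenCount, recipCount]
      · norm_num [evenCount, recipCount]
      · simp only [evenCount, recipCount]
        rw [if_pos (show 1 ≤ j + 1 + 1 + (j + 1 + 1) by omega), if_pos (show 2 ≤ j + 1 + 1 + (j + 1 + 1) by omega)]
        simp only [show ¬ j + 1 + 1 + (j + 1 + 1) = 0 by omega, show ¬ j + 1 + 1 + (j + 1 + 1) - 1 = 0 by omega,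
          show ¬ j + 1 + 1 + (j + 1 + 1) - 2 = 0 by omega, if_false,
          show ¬ (j + 1 + 1 + (j + 1 + 1)) % 2 = 1 by omega,
          show (j + 1 + 1 + (j + 1 + 1) - 1) % 2 = 1 by omega, if_true,
          show ¬ (j + 1 + 1 + (j + 1 + 1) - 2) % 2 = 1 by omega,
          show (j + 1 + 1 + (j + 1 + 1)) / 2 - 1 = j + 1 by omega,
          show (j + 1 + 1 + (j + 1 + 1) - 1) / 2 = j + 1 by omega,
          show (j + 1 + 1 + (j + 1 + 1) - 2) / 2 - 1 = j by omega]
        push_cast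
        have : (0 : ℝ) ≤ 5 ^ j := by positivity
        simp only [pow_succ]
        nlinarith
    · rw [show s ^ (2 * j + 1) = (5 : ℝ) ^ j * s by rw [pow_succ, pow_mul, hs2]]
      rcases j with _ | j
      · norm_num [evenCount, recipCount]; linarith
      · simp only [evenCount, recipCount]
        rw [if_pos (show 1 ≤ 2 * (j + 1) + 1 by omega), if_pos (show 2 ≤ 2 * (j + 1) + 1 by omega)]
        simp only [show ¬ 2 * (j + 1) + 1 = 0 by omega, show ¬ 2 * (j + 1) + 1 - 1 = 0 by omega,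
          show ¬ 2 * (j + 1) + 1 - 2 = 0 by omega, if_false, show (2 * (j + 1) + 1) % 2 = 1 by omega,
          show ¬ (2 * (j + 1) + 1 - 1) % 2 = 1 by omega, show (2 * (j + 1) + 1 - 2) % 2 = 1 by omega, if_true,
          show (2 * (j + 1) + 1) / 2 = j + 1 by omega, show (2 * (j + 1) + 1 - 1) / 2 - 1 = j by omega,
          show (2 * (j + 1) + 1 - 2) / 2 = j by omega]
        push_cast
        have : (0 : ℝ) ≤ 5 ^ j := by positivity
        rw [pow_succ]
        nlinarith [mul_le_mul_of_nonneg_left hs.1 this]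
  have h := wCount_le (fun e d => partCount 5 (shiftUp e) d) (s := s) (b := 56 / 25) hs0 (by norm_num) f
    (fun k => zero_le_one.trans (hf1 k)) hbase hstep (2 * n) (2 * n + 1)
  rw [← gCount_eq_wCount, pow_succ, pow_mul, hs2] at h
  have : ((gCount 5 shiftUp (2 * n + 1) (2 * n + 1) : ℕ) : ℝ) ≤ ((14 * 5 ^ n : ℕ) : ℝ) := by
    refine h.trans ?_
    push_cast
    calc 56 / 25 * (∏ k ∈ range (2 * n), f k) * ((5 : ℝ) ^ n * s)
        ≤ 56 / 25 * (11 / 5) * ((5 : ℝ) ^ n * (224 / 100)) :=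
          mul_le_mul (mul_le_mul_of_nonneg_left (hprod _) (by norm_num))
            (mul_le_mul_of_nonneg_left hs.2 (by positivity)) (by positivity) (by norm_num)
      _ ≤ _ := by nlinarith [show (0 : ℝ) ≤ 5 ^ n by positivity]
  exact_mod_cast this

/-- `q ≥ 5` -/
theorem five_final {q : ℕ} (hq : 5 ≤ q) (n : ℕ) : gCount q shiftUp (2 * n + 1) (2 * n + 1) ≤ 14 * q ^ n := by
  have h := gCount_mono (show 1 ≤ 5 by norm_num) hq shiftUp (2 * n + 1) (2 * n + 1)
  rw [show (2 * n + 1) / 2 = n by omega] at h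
  refine Nat.le_of_mul_le_mul_right ?_ (show 0 < 5 ^ n by positivity)
  calc gCount q shiftUp (2 * n + 1) (2 * n + 1) * 5 ^ n ≤ gCount 5 shiftUp (2 * n + 1) (2 * n + 1) * q ^ n := h
    _ ≤ 14 * 5 ^ n * q ^ n := Nat.mul_le_mul_right _ (five_count n)
    _ = _ := by ring

end CfsgLib.OrthClassNum
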