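import Mathlib
import Cfsg.Agent.Lib.OrthClassNum.ClassBound
import Cfsg.Agent.Lib.OrthClassNum.Weights

/-!
Classes of isometries of determinant one in odd dimension, also without an eigenplane at `±1`.
-/

set_option autoImplicit false

namespace CfsgLib.OrthClassNum

open Polynomial Matrix CfsgLib.SympUnip CfsgLib.UnitaryUnip CfsgLib.SpecGL CfsgLib.SpecUnitary CfsgLib.SpClassNum

universe u

variable {F : Type u} [Field F] [Fintype F] {m : ℕ}

theorem gCount_odd_eq_zero (q : ℕ) : ∀ r N : ℕ, Odd N → gCount q shiftOne r N = 0 := by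
  intro r
  induction r with
  | zero =>
    intro N hN
    rw [gCount, if_neg fun h => by rw [h] at hN; exact absurd hN (by decide)]
  | succ r ih =>
    intro N hN
    rw [gCount]
    refine Finset.sum_eq_zero fun d hd => ?_
    rw [Finset.mem_range, Nat.lt_succ_iff, Nat.le_div_iff_mul_le (by omega), mul_comm d] at hd
    rcases Nat.even_or_odd d with ⟨j, rfl⟩ | hodd
    · rw [ih, mul_zero]
      rw [Nat.odd_iff] at hN ⊢
      rw [mul_add] at hd ⊢
      omega
    · rw [partCount, if_neg (by rw [shiftOne]; omega), if_pos (Nat.odd_iff.1 hodd), zero_mul]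

theorem det_eq_of_conj {Z M M' : Matrix (Fin m) (Fin m) F} {J : Matrix (Fin m) (Fin m) F} (hJ : IsUnit J)
    (hZ : Zᵀ * J * Z = J) (h : Z * M = M' * Z) : M.det = M'.det := by
  have hd := congrArg Matrix.det h
  rw [det_mul, det_mul, mul_comm] at hd
  have hZ0 : Z.det ≠ 0 := fun h0 => ((Matrix.isUnit_iff_isUnit_det J).1 hJ).ne_zero (by
    rw [← hZ, det_mul, h0, mul_zero])
  exact mul_right_cancel₀ hZ0 hd

section signed

variable {K : Type u} (A : K → Matrix (Fin m) (Fin m) F)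

/-- A family together with its negatives. -/
def signed : K ⊕ K → Matrix (Fin m) (Fin m) F := Sum.elim A fun k => -A k

variable {A} {J : Matrix (Fin m) (Fin m) F}

theorem signed_iso (hA : ∀ k, (A k)ᵀ * J * A k = J) : ∀ x, (signed A x)ᵀ * J * signed A x = J := by
  rintro (k | k) <;> simp [signed, hA]

theorem signed_inj (h2 : (2 : F) ≠ 0) (hm : Odd m) (hJu : IsUnit J) (hdet : ∀ k, (A k).det = 1)
    (hinj : ∀ k k' (Z : Matrix (Fin m) (Fin m) F), Zᵀ * J * Z = J → Z * A k = A k' * Z → k = k') :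
    ∀ x x' (Z : Matrix (Fin m) (Fin m) F), Zᵀ * J * Z = J → Z * signed A x = signed A x' * Z → x = x' := by
  have hne : ∀ k k', (A k).det ≠ (-A k').det := fun k k' h => h2 (by
    rw [hdet, det_neg, Fintype.card_fin, hm.neg_one_pow, hdet] at h
    linear_combination h)
  rintro (k | k) (k' | k') Z hZ h <;> simp only [signed, Sum.elim_inl, Sum.elim_inr] at h
  · rw [hinj k k' Z hZ h]
  · exact absurd (det_eq_of_conj hJu hZ h) (hne k k')
  · exact absurd (det_eq_of_conj hJu hZ h).symm (hne k' k)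
  · rw [Matrix.mul_neg, Matrix.neg_mul, neg_inj] at h
    rw [hinj k k' Z hZ h]

end signed

/-- Four times the classes of determinant one. -/
theorem four_card_le (h2 : (2 : F) ≠ 0) (hm : Odd m) {J : Matrix (Fin m) (Fin m) F} (hJ : Jᵀ = J)
    (hJu : IsUnit J) {K : Type u} [Finite K] (A : K → Matrix (Fin m) (Fin m) F)
    (hA : ∀ k, (A k)ᵀ * J * A k = J) (hdet : ∀ k, (A k).det = 1)
    (hinj : ∀ k k' (Z : Matrix (Fin m) (Fin m) F), Zᵀ * J * Z = J → Z * A k = A k' * Z → k = k') :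
    4 * Nat.card K ≤ gCount (Fintype.card F) shiftUp m m := by
  have h := card_orth_classes_le h2 hJ hJu (signed A) (signed_iso hA) (signed_inj h2 hm hJu hdet hinj)
  rw [Nat.card_sum, gCount_odd_eq_zero _ _ _ hm, add_zero] at h
  omega

/-- Two parts of length one give an eigenplane. -/
theorem exists_plane_of_parts {t : ℕ} {d : Fin t → ℕ} (hd : ∀ k, 0 < d k) {X : Matrix (Ix d) (Ix d) F}
    (h1 : IsUnit (X + 1)) (hX : cay X = jshift d) {J A : Matrix (Fin m) (Fin m) F}
    {R : Matrix (Fin m) (Ix d) F} (hG : IsSymForm d (Rᵀ * J * R)) (hu : IsUnit (Rᵀ * J * R)) {c : F}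
    (hAR : A * R = c • (R * X)) (h : 2 ≤ Fintype.card {k // d k = 1}) :
    ∃ W : Submodule F (Fin m → F), 2 ≤ Module.finrank F W ∧ (∀ w ∈ W, A *ᵥ w = c • w) ∧
      ∀ x ∈ W, (∀ y ∈ W, x ⬝ᵥ J *ᵥ y = 0) → x = 0 := by
  classical
  let E : ({k // d k = 1} → F) →ₗ[F] (Ix d → F) :=
    { toFun := fun a x => if h : d x.1 = 1 then a ⟨x.1, h⟩ else 0
      map_add' := fun a b => by ext x; by_cases hx : d x.1 = 1 <;> simp [hx]
      map_smul' := fun r a => by ext x; by_cases hx : d x.1 = 1 <;> simp [hx] }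
  let φ := R.mulVecLin.comp E
  set G := Rᵀ * J * R with hGdef
  have hE : ∀ a, (jshift d : Matrix (Ix d) (Ix d) F) *ᵥ E a = 0 := fun a => funext fun x => by
    rw [Matrix.mulVec, dotProduct, Pi.zero_apply]
    refine Finset.sum_eq_zero fun y _ => ?_
    by_cases hy : d y.1 = 1
    · rw [jshift_apply, shiftEntry, if_neg, zero_mul]
      rintro ⟨hk, hi⟩
      have := x.2.isLt
      have : d x.1 = 1 := hk ▸ hy
      omega
    · simp [E, hy]
  have hX1 : ∀ a, X *ᵥ E a = E a := fun a => by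
    have hc : (X + 1) * cay X = X - 1 := by
      refine h1.mul_right_cancel ?_
      rw [Matrix.mul_assoc (X + 1), cay_mul h1]
      noncomm_ring
    have : (X - 1) *ᵥ E a = 0 := by rw [← hc, hX, ← Matrix.mulVec_mulVec, hE, Matrix.mulVec_zero]
    rwa [Matrix.sub_mulVec, Matrix.one_mulVec, sub_eq_zero] at this
  have hker : ∀ a, (∀ b, φ a ⬝ᵥ J *ᵥ φ b = 0) → a = 0 := by
    intro a ha
    have hB : ∀ k l : {k // d k = 1}, subN d 1 (blk d hd G) k l = G ⟨k.1, ⟨0, hd k.1⟩⟩ ⟨l.1, ⟨0, hd l.1⟩⟩ := by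
      intro k l
      simp only [subN, Matrix.submatrix_apply, blk, lead, Matrix.of_apply, k.2, l.2, if_true]
      rw [twInv_mul_apply, pow_zero, one_mul]
      congr 2
      exact Fin.ext (by simp [k.2])
    have hprod : ∀ b, φ a ⬝ᵥ J *ᵥ φ b = E a ⬝ᵥ G *ᵥ E b := fun b => by
      simp only [φ, LinearMap.comp_apply, Matrix.mulVecLin_apply, hGdef]
      rw [← Matrix.mulVec_mulVec, ← Matrix.mulVec_mulVec, Matrix.dotProduct_mulVec _ Rᵀ, Matrix.vecMul_transpose]
    by_contra hne
    have hdetB := subN_blk_det_ne_zero_sym hd hG hu 1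
    refine hdetB (Matrix.exists_vecMul_eq_zero_iff.1 ⟨a, hne, funext fun l => ?_⟩)
    have h0 := ha (Pi.single l 1)
    rw [hprod] at h0
    rw [Pi.zero_apply, ← h0]
    let j : {k // d k = 1} → Ix d := fun k => ⟨k.1, ⟨0, hd k.1⟩⟩
    have hsum : ∀ (b : {k // d k = 1} → F) (f : Ix d → F), E b ⬝ᵥ f = ∑ k, b k * f (j k) := fun b f => by
      rw [dotProduct]
      refine (Finset.sum_of_injOn j (fun k _ k' _ h => Subtype.ext (congrArg Sigma.fst h))
        (fun k _ => Finset.mem_coe.2 (Finset.mem_univ _)) (fun x _ hx => ?_) (fun k _ => ?_)).symm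
      · by_cases hd1 : d x.1 = 1
        · refine absurd ⟨⟨x.1, hd1⟩, Finset.mem_coe.2 (Finset.mem_univ _), ?_⟩ hx
          exact Sigma.ext rfl (heq_of_eq (Fin.ext (show (0 : ℕ) = x.2 by have := x.2.isLt; omega)))
        · simp [E, hd1]
      · simp [E, j, k.2]
    rw [hsum, Matrix.vecMul, dotProduct]
    refine Finset.sum_congr rfl fun k _ => ?_
    rw [hB]
    congr 1
    rw [Matrix.mulVec, dotProduct_comm, hsum, Finset.sum_eq_single l]
    · simp [j]
    · intro b _ hb; simp [hb]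
    · simp
  have hinj : Function.Injective φ := by
    refine LinearMap.ker_eq_bot.1 (LinearMap.ker_eq_bot'.2 fun a ha => hker a fun b => ?_)
    rw [ha, zero_dotProduct]
  refine ⟨LinearMap.range φ, ?_, ?_, ?_⟩
  · rw [LinearMap.finrank_range_of_inj hinj, Module.finrank_fintype_fun_eq_card]
    exact h
  · rintro _ ⟨a, rfl⟩
    simp only [φ, LinearMap.comp_apply, Matrix.mulVecLin_apply]
    rw [Matrix.mulVec_mulVec, hAR, Matrix.smul_mulVec, ← Matrix.mulVec_mulVec, hX1]
  · rintro _ ⟨a, rfl⟩ ha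
    rw [hker a fun b => ha _ ⟨b, rfl⟩, map_zero]

theorem coords_form_eq {A : Matrix (Fin m) (Fin m) F} (C : Coords A) {J : Matrix (Fin m) (Fin m) F}
    (hJ : Jᵀ = J) (hJu : IsUnit J) (hA : Aᵀ * J * A = J) :
    C.Lᵀ * (C.Pᵀ * J * C.P) * C.L = C.Pᵀ * J * C.P ∧ (C.Pᵀ * J * C.P)ᵀ = C.Pᵀ * J * C.P ∧
      IsUnit (C.Pᵀ * J * C.P) := by
  have hL : A * C.P = C.P * C.L := C.eq
  refine ⟨?_, ?_, ?_⟩
  · calc C.Lᵀ * (C.Pᵀ * J * C.P) * C.L = (C.P * C.L)ᵀ * J * (C.P * C.L) := by
          simp only [transpose_mul, Matrix.mul_assoc]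
      _ = C.Pᵀ * (Aᵀ * J * A) * C.P := by rw [← hL, transpose_mul]; simp only [Matrix.mul_assoc]
      _ = _ := by rw [hA]
  · simp only [transpose_mul, transpose_transpose, hJ, Matrix.mul_assoc]
  · obtain ⟨j, hj⟩ := hJu
    refine IsUnit.of_mul_eq_one (C.Q * (↑j⁻¹ : Matrix (Fin m) (Fin m) F) * C.Qᵀ) ?_
    calc C.Pᵀ * J * C.P * (C.Q * (↑j⁻¹ : Matrix (Fin m) (Fin m) F) * C.Qᵀ)
        = C.Pᵀ * (J * (C.P * C.Q) * (↑j⁻¹ : Matrix (Fin m) (Fin m) F)) * C.Qᵀ := by simp only [Matrix.mul_assoc]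
      _ = 1 := by
          rw [C.hPQ, Matrix.mul_one, ← hj, j.mul_inv, Matrix.mul_one, ← transpose_mul, C.hQP, transpose_one]

/-- A repeated divisor `X ∓ 1` gives an eigenplane. -/
theorem exists_plane_of_dvd (h2 : (2 : F) ≠ 0) {A J : Matrix (Fin m) (Fin m) F} (hJ : Jᵀ = J) (hJu : IsUnit J)
    (hA : Aᵀ * J * A = J) {s : Multiset (F[X] × ℕ)} (hs : GoodDivisors s) (h : HasDivisors A s) {c : F}
    (hc : c = 1 ∨ c = -1) (i : Fin m) (hi : (i : ℕ) + 1 = 1)
    (hdvd : (X - Polynomial.C c) ^ 2 ∣ exponentPoly s i) :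
    ∃ W : Submodule F (Fin m → F), 2 ≤ Module.finrank F W ∧ (∀ w ∈ W, A *ᵥ w = c • w) ∧
      ∀ x ∈ W, (∀ y ∈ W, x ⬝ᵥ J *ᵥ y = 0) → x = 0 := by
  classical
  set S := (s.filter fun x => x.2 = (i : ℕ) + 1).map Prod.fst with hS
  have hcount : 2 ≤ s.count (X - Polynomial.C c, 1) := by
    have hmem : ∀ p ∈ S, p.Monic ∧ Irreducible p := fun p hp => by
      obtain ⟨x, hx, rfl⟩ := Multiset.mem_map.1 hp
      exact ⟨(hs x (Multiset.mem_of_mem_filter hx)).1, (hs x (Multiset.mem_of_mem_filter hx)).2.1⟩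
    have hcnt : S.count (X - Polynomial.C c) = s.count (X - Polynomial.C c, 1) := by
      rw [hS, Multiset.count_map, Multiset.filter_filter, Multiset.count_eq_card_filter_eq]
      refine congrArg Multiset.card (Multiset.filter_congr fun y _ => ?_)
      exact ⟨fun h => Prod.ext h.1 (by rw [h.2, hi]), fun h => ⟨by rw [← h], by rw [← h, hi]⟩⟩
    rw [← hcnt]
    by_contra hlt
    have hsplit : S.prod = (X - Polynomial.C c) ^ S.count (X - Polynomial.C c) *
        (S.filter fun p => ¬ p = X - Polynomial.C c).prod := by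
      conv_lhs => rw [← Multiset.filter_add_not (fun p => p = X - Polynomial.C c) S, Multiset.prod_add,
        Multiset.filter_eq', Multiset.prod_replicate]
    have hnd : ¬ (X - Polynomial.C c) ∣ (S.filter fun p => ¬ p = X - Polynomial.C c).prod := fun hd => by
      obtain ⟨p, hp, hpd⟩ := (prime_X_sub_C c).exists_mem_multiset_dvd hd
      obtain ⟨hp, hpc⟩ := Multiset.mem_filter.1 hp
      exact hpc (eq_of_monic_of_associated (monic_X_sub_C c) (hmem p hp).1
        ((irreducible_X_sub_C c).associated_of_dvd (hmem p hp).2 hpd)).symm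
    have h' : (X - Polynomial.C c) ^ 2 ∣ S.prod := by rw [hS]; exact hdvd
    rw [hsplit] at h'
    rcases (show S.count (X - Polynomial.C c) = 0 ∨ S.count (X - Polynomial.C c) = 1 by omega) with h0 | h0 <;>
      rw [h0] at h'
    · rw [pow_zero, one_mul] at h'
      exact hnd ((dvd_pow_self _ two_ne_zero).trans h')
    · rw [pow_one, sq] at h'
      exact hnd ((mul_dvd_mul_iff_left (X_sub_C_ne_zero c)).1 h')
  let C := (exists_coords h2 A).some
  have hL : A * C.P = C.P * C.L := C.eq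
  obtain ⟨hiso, hsym, hu⟩ := coords_form_eq C hJ hJu hA
  obtain ⟨Gp, Gm, Go, hG, ⟨p1, p2, p3⟩, ⟨q1, q2, q3⟩, -⟩ := sym_blocks C hiso hsym hu
  rcases hc with rfl | rfl
  · have e : (C.P.submatrix id Sum.inl)ᵀ * J * C.P.submatrix id Sum.inl = Gp := by
      have h := congrArg (fun M => M.submatrix Sum.inl Sum.inl) hG
      simp only [submatrix_mul (C.Pᵀ * J) C.P Sum.inl id Sum.inl Function.bijective_id,
        submatrix_mul C.Pᵀ J Sum.inl id id Function.bijective_id, submatrix_id_id] at h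
      rw [← transpose_submatrix] at h
      rw [h]
      ext a b
      rfl
    refine exists_plane_of_parts C.hdp C.hp1 C.hp2 (R := C.P.submatrix id Sum.inl)
      (e.symm ▸ isSymForm_of_isometry C.hp1 C.hp2 p1 p2) (e.symm ▸ p3) ?_ ?_
    · have h := congrArg (fun M => M.submatrix id Sum.inl) hL
      simp only [submatrix_mul A C.P id id Sum.inl Function.bijective_id, submatrix_id_id] at h
      rw [h, one_smul]
      ext a b
      simp [Matrix.mul_apply, Fintype.sum_sum_type, Coords.L]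
    · rw [← C.count_one hs h]; exact hcount
  · have e : (C.P.submatrix id (Sum.inr ∘ Sum.inl))ᵀ * J * C.P.submatrix id (Sum.inr ∘ Sum.inl) = Gm := by
      have h := congrArg (fun M => M.submatrix (Sum.inr ∘ Sum.inl) (Sum.inr ∘ Sum.inl)) hG
      simp only [submatrix_mul (C.Pᵀ * J) C.P (Sum.inr ∘ Sum.inl) id (Sum.inr ∘ Sum.inl) Function.bijective_id,
        submatrix_mul C.Pᵀ J (Sum.inr ∘ Sum.inl) id id Function.bijective_id, submatrix_id_id] at h
      rw [← transpose_submatrix] at h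
      rw [h]
      ext a b
      rfl
    refine exists_plane_of_parts C.hdm C.hm1 C.hm2 (R := C.P.submatrix id (Sum.inr ∘ Sum.inl))
      (e.symm ▸ isSymForm_of_isometry C.hm1 C.hm2 q1 q2) (e.symm ▸ q3) ?_ ?_
    · have h := congrArg (fun M => M.submatrix id (Sum.inr ∘ Sum.inl)) hL
      simp only [submatrix_mul A C.P id id (Sum.inr ∘ Sum.inl) Function.bijective_id, submatrix_id_id] at h
      rw [h, neg_one_smul]
      ext a b
      simp [Matrix.mul_apply, Fintype.sum_sum_type, Coords.L]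
    · rw [← C.count_neg_one h2 hs h]; exact hcount

open scoped Classical in
/-- The weights with simple roots `±1` at exponent one. -/
noncomputable def simpleWeight (e : ℕ) (g : F[X]) : ℕ :=
  if PartOk (shiftUp e) g ∧ (e = 1 → ¬ (X - Polynomial.C (1 : F)) ^ 2 ∣ g ∧ ¬ (X - Polynomial.C (-1 : F)) ^ 2 ∣ g) then
    partWeight (shiftUp e) g else 0

open scoped Classical in
theorem sum_simpleWeight_le (h2 : (2 : F) ≠ 0) (e D : ℕ) :
    ∑ g ∈ polys F D, simpleWeight e g ≤ simpleBase (Fintype.card F) e D := by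
  classical
  by_cases he : e = 1
  swap
  · rw [simpleBase, if_neg he]
    refine le_trans (le_of_eq ?_) (sum_part_le h2 (shiftUp e) D)
    refine Finset.sum_congr rfl fun g _ => ?_
    simp [simpleWeight, he]
  subst he
  have hev : ¬ Odd (shiftUp 1) := by rw [shiftUp]; decide
  set N : ℕ → Finset F[X] := fun k =>
    (polys F k).filter fun g => conjRev (RingHom.id F) g = g ∧ g.eval 1 ≠ 0 ∧ g.eval (-1) ≠ 0 with hN
  have hone : (1 : F) ≠ -1 := fun h => h2 (by linear_combination h)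
  have key : ∀ g ∈ polys F D, simpleWeight 1 g ≤
      (if g ∈ N D then 1 else 0) + (if 1 ≤ D ∧ g ∈ (N (D - 1)).image (fun r => (X - Polynomial.C (1 : F)) * r) then 2 else 0)
        + (if 1 ≤ D ∧ g ∈ (N (D - 1)).image (fun r => (X - Polynomial.C (-1 : F)) * r) then 2 else 0) +
        (if 2 ≤ D ∧ g ∈ (N (D - 2)).image (fun r => (X - Polynomial.C (1 : F)) * ((X - Polynomial.C (-1)) * r)) then 4 else 0) := by
    intro g hg
    rw [simpleWeight]
    by_cases hcond : PartOk (shiftUp 1) g ∧ (1 = 1 → ¬ (X - Polynomial.C (1 : F)) ^ 2 ∣ g ∧ ¬ (X - Polynomial.C (-1 : F)) ^ 2 ∣ g)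
    swap
    · rw [if_neg hcond]; exact Nat.zero_le _
    rw [if_pos hcond]
    all_goals obtain ⟨⟨hfix, -⟩, hsq⟩ := hcond
    all_goals obtain ⟨hs1, hs2⟩ := hsq rfl
    all_goals obtain ⟨hm, hd, h0⟩ := spec_polys hg
    all_goals rw [partWeight, if_neg hev]
    all_goals
      have hfac : ∀ (g : F[X]) (c : F), c * c = 1 → g.Monic → g.coeff 0 ≠ 0 → conjRev (RingHom.id F) g = g →
          g.eval c = 0 → ¬ (X - Polynomial.C c) ^ 2 ∣ g → ∃ r, g = (X - Polynomial.C c) * r ∧
            r ∈ polys F (g.natDegree - 1) ∧ conjRev (RingHom.id F) r = r ∧ r.eval c ≠ 0 ∧ 1 ≤ g.natDegree := by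
        intro g c hc hm h0 hfix hev hsq
        obtain ⟨r, rfl⟩ := dvd_iff_isRoot.2 hev
        have hr : r.Monic := (monic_X_sub_C c).of_mul_monic_left hm
        rw [(monic_X_sub_C c).natDegree_mul hr, natDegree_X_sub_C]
        refine ⟨r, rfl, mem_polys hr (by omega) ?_, ?_, fun h => hsq ?_, by omega⟩
        · rw [mul_coeff_zero] at h0; exact right_ne_zero_of_mul h0
        · rw [conjRev_mul, conjRev_linear hc] at hfix
          exact mul_left_cancel₀ (X_sub_C_ne_zero c) hfix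
        · rw [sq]; exact mul_dvd_mul_left _ (dvd_iff_isRoot.2 h)
      by_cases h1 : g.eval 1 = 0 <;> by_cases h3 : g.eval (-1) = 0
      · obtain ⟨r, rfl, hr, hrf, hr1, hle⟩ := hfac g 1 (one_mul 1) hm h0 hfix h1 hs1
        obtain ⟨hrm, hrd, hr0⟩ := spec_polys hr
        have hr3 : r.eval (-1) = 0 := by
          rw [eval_mul, eval_sub, eval_X, eval_C] at h3
          exact (mul_eq_zero.1 h3).resolve_left (sub_ne_zero.2 hone.symm)
        obtain ⟨r', rfl, hr', hrf', hr3', hle'⟩ :=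
          hfac r (-1) (by ring) hrm hr0 hrf hr3 fun h => hs2 (h.mul_left _)
        have hmem : r' ∈ N (D - 2) := by
          simp only [hN, Finset.mem_filter]
          refine ⟨?_, hrf', fun h => hr1 (by rw [eval_mul, h, mul_zero]), hr3'⟩
          have hD2 : D - 2 = ((X - Polynomial.C (-1 : F)) * r').natDegree - 1 := by omega
          exact hD2 ▸ hr'
        have hp : 2 ≤ D ∧ (X - Polynomial.C (1 : F)) * ((X - Polynomial.C (-1)) * r') ∈
            (N (D - 2)).image (fun r => (X - Polynomial.C (1 : F)) * ((X - Polynomial.C (-1)) * r)) :=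
          ⟨by omega, Finset.mem_image_of_mem _ hmem⟩
        rw [if_pos hp, if_pos h1, if_pos h3]
        omega
      · obtain ⟨r, rfl, hr, hrf, hr1, hle⟩ := hfac g 1 (one_mul 1) hm h0 hfix h1 hs1
        have hp : 1 ≤ D ∧ (X - Polynomial.C (1 : F)) * r ∈
            (N (D - 1)).image (fun r => (X - Polynomial.C (1 : F)) * r) := by
          refine ⟨by omega, Finset.mem_image_of_mem _ ?_⟩
          simp only [hN, Finset.mem_filter]
          exact ⟨hd ▸ hr, hrf, hr1, fun h => h3 (by rw [eval_mul, h, mul_zero])⟩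
        rw [if_pos hp, if_pos h1, if_neg h3]
        omega
      · obtain ⟨r, rfl, hr, hrf, hr1, hle⟩ := hfac g (-1) (by ring) hm h0 hfix h3 hs2
        have hp : 1 ≤ D ∧ (X - Polynomial.C (-1 : F)) * r ∈
            (N (D - 1)).image (fun r => (X - Polynomial.C (-1 : F)) * r) := by
          refine ⟨by omega, Finset.mem_image_of_mem _ ?_⟩
          simp only [hN, Finset.mem_filter]
          exact ⟨hd ▸ hr, hrf, fun h => h1 (by rw [eval_mul, h, mul_zero]), hr1⟩
        rw [if_pos hp, if_pos h3, if_neg h1]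
        omega
      · rw [if_neg h1, if_neg h3, if_pos (show g ∈ N D by
          simp only [hN, Finset.mem_filter]; exact ⟨hg, hfix, h1, h3⟩)]
        omega
  have hcount : ∀ (T : Finset F[X]) (w : ℕ) (p : Prop) [Decidable p] (b : ℕ), T.card ≤ b →
      (∑ g ∈ polys F D, if p ∧ g ∈ T then w else 0) ≤ w * if p then b else 0 := by
    intro T w p _ b hb
    by_cases hp : p
    · simp only [hp, true_and, if_true]
      rw [← Finset.sum_filter, Finset.sum_const, smul_eq_mul, mul_comm]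
      exact Nat.mul_le_mul_left w ((Finset.card_le_card fun g hg => (Finset.mem_filter.1 hg).2).trans hb)
    · simp [hp]
  refine (Finset.sum_le_sum key).trans ?_
  simp only [Finset.sum_add_distrib]
  rw [simpleBase, if_pos rfl, simpleCount]
  have hb : ∀ k, (N k).card ≤ noRootCount (Fintype.card F) k := fun k => card_noRoot_le h2 k
  have c1 : (∑ g ∈ polys F D, if g ∈ N D then 1 else 0) ≤ noRootCount (Fintype.card F) D := by
    rw [← Finset.sum_filter, ← Finset.card_eq_sum_ones]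
    exact (Finset.card_le_card fun g hg => (Finset.mem_filter.1 hg).2).trans (hb D)
  have c2 := hcount ((N (D - 1)).image fun r => (X - Polynomial.C (1 : F)) * r) 2 (1 ≤ D) _
    (Finset.card_image_le.trans (hb (D - 1)))
  have c3 := hcount ((N (D - 1)).image fun r => (X - Polynomial.C (-1 : F)) * r) 2 (1 ≤ D) _
    (Finset.card_image_le.trans (hb (D - 1)))
  have c4 := hcount ((N (D - 2)).image fun r => (X - Polynomial.C (1 : F)) * ((X - Polynomial.C (-1)) * r)) 4 (2 ≤ D) _
    (Finset.card_image_le.trans (hb (D - 2)))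
  omega

/-- Four times the classes of determinant one without eigenplanes. -/
theorem four_card_simple_le (h2 : (2 : F) ≠ 0) (hm : Odd m) {J : Matrix (Fin m) (Fin m) F} (hJ : Jᵀ = J)
    (hJu : IsUnit J) {K : Type u} [Finite K] (A : K → Matrix (Fin m) (Fin m) F)
    (hA : ∀ k, (A k)ᵀ * J * A k = J) (hdet : ∀ k, (A k).det = 1)
    (hinj : ∀ k k' (Z : Matrix (Fin m) (Fin m) F), Zᵀ * J * Z = J → Z * A k = A k' * Z → k = k')
    (hplane : ∀ k (c : F), (c = 1 ∨ c = -1) → ∀ W : Submodule F (Fin m → F), 2 ≤ Module.finrank F W →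
      (∀ w ∈ W, A k *ᵥ w = c • w) → ¬ ∀ x ∈ W, (∀ y ∈ W, x ⬝ᵥ J *ᵥ y = 0) → x = 0) :
    4 * Nat.card K ≤ wCount (simpleBase (Fintype.card F)) m m := by
  classical
  have h := card_orth_classes_le_aux h2 hJ hJu (signed A) (signed_iso hA) (signed_inj h2 hm hJu hdet hinj)
    (fun e g => e = 1 → ¬ (X - Polynomial.C (1 : F)) ^ 2 ∣ g ∧ ¬ (X - Polynomial.C (-1 : F)) ^ 2 ∣ g) (by
      intro x s hs hdiv i hi
      have hno : ∀ c : F, (c = 1 ∨ c = -1) → ¬ (X - Polynomial.C c) ^ 2 ∣ exponentPoly s i := by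
        intro c hc hdvd
        obtain ⟨W, hW2, hW, hWn⟩ := exists_plane_of_dvd h2 hJ hJu (signed_iso hA x) hs hdiv hc i hi hdvd
        rcases x with k | k
        · exact hplane k c hc W hW2 hW hWn
        · refine hplane k (-c) (by rcases hc with rfl | rfl <;> simp) W hW2 (fun w hw => ?_) hWn
          have e := hW w hw
          simp only [signed, Sum.elim_inr, Matrix.neg_mulVec] at e
          rw [neg_smul, ← e, neg_neg]
      exact ⟨hno 1 (Or.inl rfl), hno (-1) (Or.inr rfl)⟩)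
  rw [Nat.card_sum, gCount_odd_eq_zero _ _ _ hm, add_zero] at h
  refine le_trans (by omega) (h.trans (le_trans (le_of_eq ?_)
    (sum_wTuples_le simpleWeight (simpleBase (Fintype.card F)) (fun e d _ => sum_simpleWeight_le h2 e d) m m)))
  refine Finset.sum_congr rfl fun t _ => ?_
  by_cases hall : ∀ i : Fin m, PartOk (shiftUp ((i : ℕ) + 1)) (t i) ∧ ((i : ℕ) + 1 = 1 →
      ¬ (X - Polynomial.C (1 : F)) ^ 2 ∣ t i ∧ ¬ (X - Polynomial.C (-1 : F)) ^ 2 ∣ t i)
  · rw [if_pos hall]
    exact Finset.prod_congr rfl fun i _ => by rw [simpleWeight, if_pos (hall i)]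
  · rw [if_neg hall]
    obtain ⟨i, hi⟩ := not_forall.1 hall
    exact (Finset.prod_eq_zero (Finset.mem_univ i) (by rw [simpleWeight, if_neg hi])).symm

end CfsgLib.OrthClassNum
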