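import Mathlib
import Cfsg.Agent.Lib.Orth.SO
import Cfsg.Agent.Lib.OrthOmega.Adjust
import Cfsg.Agent.Lib.OrthClassNum.Bridge
import Cfsg.Agent.Lib.OrthClassNum.IndexTwo
import Cfsg.Agent.Lib.OrthClassNum.Numeric
import Cfsg.Agent.Lib.OrthClassNum.OddDim

/-!
Class numbers of `Ω_(2n+1)(q)`, `q` odd.
-/

set_option autoImplicit false

namespace CfsgLib.OrthClassNum

open Polynomial Matrix CfsgLib.Orth

universe u

variable {F : Type u} [Field F] [Fintype F]

/-- Every `(X - 1) X^n f(X + 1/X)` is a characteristic polynomial in `SO_(2n+1)`. -/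
theorem exists_odd_realization (h2 : (2 : F) ≠ 0) {n : ℕ} (hn : 1 ≤ n)
    {J : Matrix (Fin (2 * n + 1)) (Fin (2 * n + 1)) F} (hJ : Jᵀ = J) (hJd : J.det ≠ 0) (v : Fin n → F) :
    ∃ A : Matrix (Fin (2 * n + 1)) (Fin (2 * n + 1)) F, Aᵀ * J * A = J ∧ A.det = 1 ∧
      A.charpoly = hom2 n (monicPoly n v) * (X - Polynomial.C 1) := by
  classical
  obtain ⟨hm, hd⟩ := monicPoly_spec n v
  set z := (-1 : F) ^ n * ((monicPoly n v).eval 2 * (monicPoly n v).eval (-2)) with hz
  obtain ⟨ι, i1, i2, G, A, hcard, hG, hGd, -, hA, hAc⟩ : Realized (if z = 0 then 1 else z) n (hom2 n (monicPoly n v)) := by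
    by_cases h0 : z = 0
    · rw [if_pos h0]
      exact realized_hom2 h2 n _ hm hd 1 one_ne_zero (by rw [← hz, h0, mul_zero]; exact IsSquare.zero)
    · rw [if_neg h0]
      exact realized_hom2 h2 n _ hm hd z h0 ⟨z, by rw [← hz]⟩
  let W : Matrix (Fin 1) (Fin 1) F := Matrix.diagonal fun _ => J.det * G.det
  have hWd : W.det = J.det * G.det := by simp [W]
  let ε : Fin (2 * n + 1) ≃ ι ⊕ Fin 1 :=
    (finCongr (show 2 * n + 1 = Fintype.card (ι ⊕ Fin 1) by simp [hcard])).trans (Fintype.equivFin _).symm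
  obtain ⟨C', hC, hCJ⟩ := CfsgLib.SympUnip.sym_congr h2 (A := (fromBlocks G 0 0 W).submatrix ε ε) (A' := J)
    (by rw [transpose_submatrix, fromBlocks_transpose, hG, transpose_zero, transpose_zero, diagonal_transpose]) hJ
    (by rw [det_submatrix_equiv_self, det_fromBlocks_zero₂₁, hWd]; exact mul_ne_zero hGd (mul_ne_zero hJd hGd)) hJd
    (by rw [det_submatrix_equiv_self, det_fromBlocks_zero₂₁, hWd]; exact ⟨J.det * G.det, by ring⟩)
  obtain ⟨u, rfl⟩ := hC
  set U : Matrix (Fin (2 * n + 1)) (Fin (2 * n + 1)) F := u.1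
  set V : Matrix (Fin (2 * n + 1)) (Fin (2 * n + 1)) F := (↑u⁻¹ : Matrix (Fin (2 * n + 1)) (Fin (2 * n + 1)) F)
  set A0 := (fromBlocks A 0 0 (1 : Matrix (Fin 1) (Fin 1) F)).submatrix ε ε with hA0
  have hUV : U * V = 1 := u.mul_inv
  have hA' : A0ᵀ * (fromBlocks G 0 0 W).submatrix ε ε * A0 = (fromBlocks G 0 0 W).submatrix ε ε := by
    rw [hA0, transpose_submatrix, submatrix_mul_equiv, submatrix_mul_equiv]
    simp [fromBlocks_transpose, fromBlocks_multiply, hA]
  have hc : (V * A0 * U).charpoly = hom2 n (monicPoly n v) * (X - Polynomial.C 1) := by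
    simp only [V, U, Matrix.coe_units_inv]
    rw [Matrix.charpoly_units_conj', hA0,
      show (fromBlocks A 0 0 (1 : Matrix (Fin 1) (Fin 1) F)).submatrix ε ε = Matrix.reindex ε.symm ε.symm (fromBlocks A 0 0 (1 : Matrix (Fin 1) (Fin 1) F)) from rfl,
      Matrix.charpoly_reindex, charpoly_fromBlocks_zero₂₁, hAc, Matrix.charpoly_one, Fintype.card_fin, pow_one,
      map_one]
  refine ⟨V * A0 * U, ?_, ?_, hc⟩
  · rw [← hCJ]
    calc (V * A0 * U)ᵀ * (Uᵀ * (fromBlocks G 0 0 W).submatrix ε ε * U) * (V * A0 * U)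
        = Uᵀ * (A0ᵀ * (Vᵀ * Uᵀ) * (fromBlocks G 0 0 W).submatrix ε ε * (U * V) * A0) * U := by
          simp only [transpose_mul, Matrix.mul_assoc]
      _ = _ := by rw [hUV, ← transpose_mul, hUV, transpose_one, Matrix.mul_one, Matrix.mul_one, hA']
  · rw [Matrix.det_eq_sign_charpoly_coeff, hc, mul_coeff_zero, (monic_hom2 n hm hd).2.2, Fintype.card_fin,
      Odd.neg_one_pow ⟨n, rfl⟩]
    simp

theorem card_conjClasses_congr {G H : Type*} [Group G] [Group H] (e : G ≃* H) :
    Nat.card (ConjClasses G) = Nat.card (ConjClasses H) := by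
  refine Nat.card_eq_of_bijective (ConjClasses.map e.toMonoidHom) ⟨?_, ConjClasses.map_surjective e.surjective⟩
  intro a b h
  obtain ⟨x, rfl⟩ := ConjClasses.mk_surjective a
  obtain ⟨y, rfl⟩ := ConjClasses.mk_surjective b
  rw [ConjClasses.mk_eq_mk_iff_isConj]
  have := e.symm.toMonoidHom.map_isConj (ConjClasses.mk_eq_mk_iff_isConj.1 h)
  simpa using this

variable {ι : Type} [Fintype ι] [DecidableEq ι]

/-- Both bounds. -/
theorem omega_class_bounds (hodd : Odd (Fintype.card F)) (Q : QuadraticForm F (ι → F))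
    (hQ : Q.polarBilin.Nondegenerate) {n : ℕ} (hn : 2 ≤ n) (hcard : Fintype.card ι = 2 * n + 1) :
    Fintype.card F ^ n ≤ 2 * Nat.card (ConjClasses ↥(Cfsg.Omega F ⇑Q)) ∧
      10 * Nat.card (ConjClasses ↥(Cfsg.Omega F ⇑Q)) ≤ 73 * Fintype.card F ^ n := by
  classical
  have hq : 3 ≤ Fintype.card F := by
    have := Fintype.one_lt_card (α := F)
    obtain ⟨k, hk⟩ := hodd
    omega
  have h2 : (2 : F) ≠ 0 := by
    refine Ring.two_ne_zero fun h => ?_
    have := FiniteField.even_card_of_char_two h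
    rw [Nat.odd_iff] at hodd
    omega
  obtain ⟨ν, hν⟩ := FiniteField.exists_nonsquare (F := F) fun h => h2 (by exact_mod_cast (ringChar.spec F 2).2 (by rw [h]))
  let H : Subgroup (O Q) := (chi Q 1 * chi Q ν).ker
  let χ : H →* ℤˣ := (chi Q 1).comp H.subtype
  let S := ↥H
  have hcast : Function.Injective (Units.map (Int.castRingHom F).toMonoidHom : ℤˣ →* Fˣ) := by
    intro a b h
    rcases Int.units_eq_one_or a with rfl | rfl <;> rcases Int.units_eq_one_or b with rfl | rfl <;>
      first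
        | rfl
        | (exfalso; have := congrArg Units.val h; simp at this; exact h2 (by first | linear_combination this | linear_combination -this))
  have hmemH : ∀ g : O Q, g ∈ H ↔ ((g : GL ι F) : Matrix ι ι F).det = 1 := by
    intro g
    have e := detHom_eq hQ h2 hν g
    have e' : ((detHom Q g : Fˣ) : F) = ((g : GL ι F) : Matrix ι ι F).det := rfl
    rw [MonoidHom.mem_ker, MonoidHom.mul_apply]
    constructor
    · intro h
      rw [← e', e, h, map_one, Units.val_one]
    · intro h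
      refine hcast ?_
      rw [map_one, ← e]
      exact Units.ext (e'.trans h)
  have hmem1 : ∀ g : H, χ g = 1 ↔ g.1 ∈ commutator (O Q) := by
    intro g
    rw [commutator_eq hQ h2 hν, MonoidHom.mem_ker, chiPair, MonoidHom.prod_apply, Prod.mk_eq_one]
    refine ⟨fun h => ⟨h, ?_⟩, fun h => h.1⟩
    have hg : chi Q 1 g.1 * chi Q ν g.1 = 1 := g.2
    rwa [show chi Q 1 g.1 = 1 from h, one_mul] at hg
  obtain ⟨t, ht⟩ := chiPair_surjective hQ h2 hν (by omega) (-1, -1)
  rw [chiPair, MonoidHom.prod_apply, Prod.mk.injEq] at ht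
  have htH : t ∈ H := by rw [MonoidHom.mem_ker, MonoidHom.mul_apply, ht.1, ht.2]; decide
  obtain ⟨hlow, hup⟩ := card_classes_index_two χ ⟨⟨t, htH⟩, ht.1⟩
  have hle : commutator (O Q) ≤ H := fun g hg => by
    rw [commutator_eq hQ h2 hν, MonoidHom.mem_ker, chiPair, MonoidHom.prod_apply, Prod.mk_eq_one] at hg
    rw [MonoidHom.mem_ker, MonoidHom.mul_apply, hg.1, hg.2, one_mul]
  let e : ↥(Cfsg.Omega F ⇑Q) ≃* χ.ker :=
    { toFun := fun g => ⟨⟨g.1, hle g.2⟩, (hmem1 ⟨g.1, hle g.2⟩).2 g.2⟩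
      invFun := fun g => ⟨g.1.1, (hmem1 g.1).1 g.2⟩
      left_inv := fun g => rfl
      right_inv := fun g => rfl
      map_mul' := fun g h => rfl }
  rw [card_conjClasses_congr e]
  let ε : Fin (2 * n + 1) ≃ ι := (Fintype.equivFinOfCardEq hcard).symm
  let ρ := Matrix.reindexAlgEquiv F F (Fintype.equivFinOfCardEq hcard : ι ≃ Fin (2 * n + 1))
  have htr : ∀ X, (ρ X)ᵀ = ρ Xᵀ := fun X => rfl
  set J := ρ (QuadFin.gram ⇑Q) with hJdef
  have hJ : Jᵀ = J := by
    rw [hJdef, htr]
    congr 1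
    ext i j
    simp [QuadFin.gram, QuadraticMap.polar_comm]
  have hJd : J.det ≠ 0 := by
    rw [show J.det = (QuadFin.gram ⇑Q).det from Matrix.det_reindexAlgEquiv F F _ _]
    exact QuadFin.gram_det_ne_zero Q hQ
  have hJu : IsUnit J := (Matrix.isUnit_iff_isUnit_det J).2 (isUnit_iff_ne_zero.2 hJd)
  let mat : ConjClasses H → Matrix (Fin (2 * n + 1)) (Fin (2 * n + 1)) F := fun c => ρ (c.out.1 : GL ι F).1
  have hiso : ∀ h : O Q, (ρ (h : GL ι F).1)ᵀ * J * ρ (h : GL ι F).1 = J := fun h => by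
    rw [htr, hJdef, ← map_mul, ← map_mul, (mem_isometryGroup_gram h2 Q h.1).1 h.2]
  have hdetρ : ∀ W : Matrix ι ι F, (ρ W).det = W.det := fun W => Matrix.det_reindexAlgEquiv F F _ _
  have hlift : ∀ W : Matrix ι ι F, (ρ W)ᵀ * J * ρ W = J → ∃ h : O Q, (h : GL ι F).1 = W := by
    intro W hW
    rw [htr, hJdef, ← map_mul, ← map_mul] at hW
    have hW' := ρ.injective hW
    have hWu : IsUnit W := by
      rw [Matrix.isUnit_iff_isUnit_det]
      refine isUnit_iff_ne_zero.2 fun h0 => QuadFin.gram_det_ne_zero Q hQ ?_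
      rw [← hW', det_mul, h0, mul_zero]
    obtain ⟨w, rfl⟩ := hWu
    exact ⟨⟨w, (mem_isometryGroup_gram h2 Q w).2 hW'⟩, rfl⟩
  have hdet : ∀ c, (mat c).det = 1 := fun c => by
    simp only [mat]
    rw [hdetρ]
    exact (hmemH c.out.1).1 c.out.2
  have hinj : ∀ c c' (Z : Matrix (Fin (2 * n + 1)) (Fin (2 * n + 1)) F), Zᵀ * J * Z = J →
      Z * mat c = mat c' * Z → c = c' := by
    intro c c' Z hZ hZA
    have hsq : Z.det * Z.det = 1 := by
      have h := congrArg Matrix.det hZ
      rw [det_mul, det_mul, det_transpose, mul_right_comm] at h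
      exact (mul_eq_right₀ hJd).1 h
    obtain ⟨Z', hZ', hZA', hZd⟩ : ∃ Z' : Matrix (Fin (2 * n + 1)) (Fin (2 * n + 1)) F,
        Z'ᵀ * J * Z' = J ∧ Z' * mat c = mat c' * Z' ∧ Z'.det = 1 := by
      rcases mul_self_eq_one_iff.1 hsq with h | h
      · exact ⟨Z, hZ, hZA, h⟩
      · exact ⟨-Z, by simp [hZ], by simp [hZA], by
          rw [det_neg, Fintype.card_fin, Odd.neg_one_pow ⟨n, rfl⟩, h]; ring⟩
    obtain ⟨W, rfl⟩ := ρ.surjective Z'
    obtain ⟨h, rfl⟩ := hlift W hZ'
    rw [hdetρ] at hZd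
    rw [← c.out_eq, ← c'.out_eq]
    refine Quotient.sound (isConj_iff.2 ⟨⟨h, (hmemH h).2 hZd⟩, ?_⟩)
    rw [mul_inv_eq_iff_eq_mul]
    refine Subtype.ext (Subtype.ext (Units.ext (ρ.injective ?_)))
    simp only [Subgroup.coe_mul, Units.val_mul, map_mul]
    exact hZA'
  constructor
  · -- lower bound
    refine le_trans ?_ hlow
    choose A hA hAd hAc using exists_odd_realization h2 (n := n) (by omega) hJ hJd
    have hex : ∀ v, ∃ g : H, ρ (g.1 : GL ι F).1 = A v := fun v => by
      obtain ⟨W, hW⟩ := ρ.surjective (A v)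
      obtain ⟨h, rfl⟩ := hlift W (by rw [hW]; exact hA v)
      exact ⟨⟨h, (hmemH h).2 (by rw [← hdetρ, hW, hAd])⟩, hW⟩
    choose g hg using hex
    have hinj' : Function.Injective fun v => ConjClasses.mk (g v) := by
      intro v w h
      obtain ⟨z, hz⟩ := isConj_iff.1 (ConjClasses.mk_eq_mk_iff_isConj.1 h)
      have hc : (A v).charpoly = (A w).charpoly := by
        rw [← hg v, ← hg w, Matrix.reindexAlgEquiv_apply, Matrix.reindexAlgEquiv_apply, Matrix.charpoly_reindex,
          Matrix.charpoly_reindex, ← hz]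
        simp only [Subgroup.coe_mul, Subgroup.coe_inv, Units.val_mul, Matrix.coe_units_inv]
        rw [Matrix.charpoly_units_conj]
      rw [hAc, hAc] at hc
      have hc' := mul_right_cancel₀ (X_sub_C_ne_zero (1 : F)) hc
      rw [← sub_eq_zero, ← hom2_sub] at hc'
      exact monicPoly_inj n (sub_eq_zero.1 (hom2_eq_zero ((natDegree_sub_le _ _).trans (by
        rw [(monicPoly_spec n v).2, (monicPoly_spec n w).2, max_self])) hc'))
    have h := Nat.card_le_card_of_injective _ hinj'
    rwa [Nat.card_fun, Nat.card_fin, Nat.card_eq_fintype_card] at h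
  · -- upper bound
    have hm : Odd (2 * n + 1) := ⟨n, rfl⟩
    have hall := four_card_le h2 hm hJ hJu mat (fun c => hiso c.out.1) hdet hinj
    have hsplit : 4 * Nat.card (SplitClass χ) ≤ wCount (simpleBase (Fintype.card F)) (2 * n + 1) (2 * n + 1) := by
      have : Finite (SplitClass χ) := Subtype.finite
      refine four_card_simple_le h2 hm hJ hJu (fun c : SplitClass χ => mat c.1) (fun c => hiso c.1.out.1)
        (fun c => hdet c.1) (fun c c' Z hZ h => Subtype.ext (hinj c.1 c'.1 Z hZ h)) ?_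
      intro c e he W hW2 hW hWn
      set g := c.1.out with hgdef
      let T : (Fin (2 * n + 1) → F) ≃ₗ[F] (ι → F) := LinearEquiv.funCongrLeft F F ε.symm
      let X' : Submodule F (ι → F) := W.map T.toLinearMap
      have hpol : ∀ x y : Fin (2 * n + 1) → F, QuadraticMap.polar Q (T x) (T y) = x ⬝ᵥ J *ᵥ y := by
        intro x y
        have e1 : QuadraticMap.polar Q (T x) (T y) =
            (T x) ⬝ᵥ QuadFin.gram ⇑Q *ᵥ (T y) := by
          rw [QuadFin.gram_eq_toMatrix]
          have := LinearMap.BilinForm.dotProduct_toMatrix_mulVec (Pi.basisFun F ι) Q.polarBilin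
            (T x) (T y)
          rw [this]
          simp [Pi.basisFun_equivFun]
        rw [e1]
        simp only [T, LinearEquiv.funCongrLeft_apply, LinearMap.funLeft_apply, dotProduct, Matrix.mulVec, J, ρ,
          Matrix.reindexAlgEquiv_apply, Matrix.reindex_apply, Matrix.submatrix_apply]
        refine Fintype.sum_equiv ε.symm _ _ fun i => ?_
        congr 1
        refine Fintype.sum_equiv ε.symm _ _ fun j => ?_
        simp [ε]
      have hX : ∀ x ∈ X', (∀ y ∈ X', QuadraticMap.polar Q x y = 0) → x = 0 := by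
        rintro _ ⟨x, hx, rfl⟩ h
        have : x = 0 := hWn x hx fun y hy => by rw [← hpol]; exact h _ ⟨y, hy, rfl⟩
        rw [this, map_zero]
      have hX2 : 2 ≤ Module.finrank F X' := by rwa [LinearEquiv.finrank_map_eq]
      have hfix : ∀ x ∈ X', app g.1 x = e • x := by
        rintro _ ⟨x, hx, rfl⟩
        have h := hW x hx
        simp only [mat, ← hgdef] at h
        funext i
        have h' := congrFun h (ε.symm i)
        simp only [app_apply, T, LinearEquiv.coe_coe, Matrix.mulVec, dotProduct, Pi.smul_apply,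
          LinearEquiv.funCongrLeft_apply, LinearMap.funLeft_apply] at h' ⊢
        rw [← h']
        refine Fintype.sum_equiv ε.symm _ _ fun j => ?_
        simp [ρ, ε]
      obtain ⟨a, ha, hQa⟩ := OrthOmega.exists_value_sub h2 X' hX hX2 (one_ne_zero (α := F))
      obtain ⟨b, hb, hQb⟩ := OrthOmega.exists_value_sub h2 X' hX hX2 (fun h => hν (h ▸ IsSquare.zero) : ν ≠ 0)
      have he0 : e ≠ 0 := by rcases he with rfl | rfl <;> simp
      have hcomm : ∀ w ∈ X', Commute g.1 (refl Q w) := fun w hw => by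
        show g.1 * refl Q w = refl Q w * g.1
        rw [← mul_inv_eq_iff_eq_mul, refl_conj, hfix w hw, refl_smul he0]
      have hν0 : ν ≠ 0 := fun h => hν (h ▸ IsSquare.zero)
      have hQa0 : Q a ≠ 0 := by rw [hQa]; exact one_ne_zero
      have hQb0 : Q b ≠ 0 := by rw [hQb]; exact hν0
      have hch : chiPair Q ν (refl Q a * refl Q b) = (-1, -1) := by
        rw [map_mul, chiPair_refl h2 hν hQa0, chiPair_refl h2 hν hQb0, if_pos (by rw [hQa]; exact IsSquare.one),
          if_neg (by rw [hQb]; exact hν)]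
        simp
      rw [chiPair, MonoidHom.prod_apply, Prod.mk.injEq] at hch
      have hsH : refl Q a * refl Q b ∈ H := by
        rw [MonoidHom.mem_ker, MonoidHom.mul_apply, hch.1, hch.2]; decide
      have h1 := c.2.2 ⟨_, hsH⟩ (Subtype.ext ((hcomm a ha).mul_right (hcomm b hb)).eq)
      exact absurd (hch.1.symm.trans h1) (by decide)
    rcases Nat.lt_or_ge (Fintype.card F) 5 with h5 | h5
    · have h3 : Fintype.card F = 3 := by
        obtain ⟨k, hk⟩ := hodd
        omega
      rw [h3] at hall hsplit ⊢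
      have := three_final hn
      omega
    · have hb : Nat.card (SplitClass χ) ≤ Nat.card (ConjClasses H) :=
        Nat.card_le_card_of_injective (fun c : SplitClass χ => c.1) Subtype.val_injective
      have := five_final h5 n
      omega

end CfsgLib.OrthClassNum
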